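import Cfsg.Agent.H73.Mon7.Elts

/-!
The centraliser of the element of order seven modulo its obvious kernel is `SL(3,2)`.
-/

set_option autoImplicit false

namespace H73.Mon7

open Cfsg Finset H95 H94
open H56M (cls cls_eq cls_add cls_neg)

/-- the table index of an element of the three-space -/
def uId (a : Fin 3 → ZMod 2) : Fin 64 :=
  ([0, 57, 56, 60, 50, 58, 59, 61] : List (Fin 64)).getD (4 * (a 0).val + 2 * (a 1).val + (a 2).val) 0

theorem uId_mem : ∀ a : Fin 3 → ZMod 2, (a = 0 ∧ uId a = 0) ∨ uId a ∈ inU := by decide +kernel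

theorem uId_surj : ∀ i : Fin 64, i ∈ inU → ∃ a, uId a = i := by decide +kernel

theorem uId_zero : uId 0 = 0 := by decide +kernel

theorem uId_basis : uId ![1, 0, 0] = 50 ∧ uId ![0, 1, 0] = 56 ∧ uId ![0, 0, 1] = 57 := by
  decide +kernel

theorem uId_sum : ∀ a b : Fin 3 → ZMod 2,
    clsOK ((List.range 6).map fun k => (tl (uId a).val).getD k 0 + (tl (uId b).val).getD k 0)
      (tl (uId (a + b)).val) = true := by
  decide +kernel

/-- the class of an element of the three-space -/
def U (a : Fin 3 → ZMod 2) : H56M.Cls := cls (tv (uId a))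

theorem U_add (a b : Fin 3 → ZMod 2) : U (a + b) = U a + U b := by
  unfold U
  rw [← cls_add]
  have hsum : fx ((List.range 6).map fun k => (tl (uId a).val).getD k 0 + (tl (uId b).val).getD k 0)
      = ((tv (uId a) + tv (uId b) : leechLattice) : GolayPt → ℤ) := by
    funext p
    have hlt := orbI_lt _ (idxN_lt p)
    show List.getD _ _ 0 = fx (tl (uId a).val) p + fx (tl (uId b).val) p
    rw [List.getD_eq_getElem _ 0 (by simpa using hlt)]
    simp [fx]
  have h1 := cls_of_clsOK (hsum ▸ (tv (uId a) + tv (uId b) : leechLattice).2) (tv (uId (a + b))).2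
    (uId_sum a b)
  exact (h1.symm.trans (congrArg cls (Subtype.ext hsum)))

theorem U_injective : Function.Injective U := fun a b h => by
  have hi := cls_tv_injective h
  revert a b
  intro a b _ hi
  exact (by decide +kernel : ∀ a b : Fin 3 → ZMod 2, uId a = uId b → a = b) a b hi

theorem exists_act (g : C7) (a : Fin 3 → ZMod 2) : ∃ b, cls ((g : Co0) • tv (uId a)) = U b := by
  rcases uId_mem a with ⟨-, h⟩ | h
  · refine ⟨0, ?_⟩
    rw [h, U, uId_zero, tv_zero]
    have h0 : cls (tv 0) = cls (0 : leechLattice) := by rw [tv_zero]; rfl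
    rw [H56M.cls_smul_congr _ h0, co0_zero]
    rfl
  · obtain ⟨b, hb⟩ := uId_surj _ (img_U g h)
    exact ⟨b, by rw [U, hb]; exact img_spec g _⟩

/-- the action on the three-space -/
noncomputable def act (g : C7) (a : Fin 3 → ZMod 2) : Fin 3 → ZMod 2 := (exists_act g a).choose

theorem act_spec (g : C7) (a : Fin 3 → ZMod 2) : cls ((g : Co0) • tv (uId a)) = U (act g a) :=
  (exists_act g a).choose_spec

theorem act_add (g : C7) (a b : Fin 3 → ZMod 2) : act g (a + b) = act g a + act g b := by
  apply U_injective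
  rw [← act_spec, U_add, ← act_spec, ← act_spec, ← cls_add, ← co0_add]
  refine H56M.cls_smul_congr _ ?_
  rw [cls_add]; exact U_add a b

/-- the linear action -/
noncomputable def lin (g : C7) : (Fin 3 → ZMod 2) →ₗ[ZMod 2] (Fin 3 → ZMod 2) :=
  (AddMonoidHom.mk' (act g) (act_add g)).toZModLinearMap 2

theorem lin_apply (g : C7) (a : Fin 3 → ZMod 2) : lin g a = act g a := rfl

theorem lin_mul (g h : C7) : lin (g * h) = (lin g).comp (lin h) := by
  refine LinearMap.ext fun a => U_injective ?_
  rw [lin_apply, LinearMap.comp_apply, lin_apply, lin_apply, ← act_spec, ← act_spec, Subgroup.coe_mul,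
    mul_smul]
  exact H56M.cls_smul_congr _ (act_spec h a)

theorem lin_one : lin 1 = LinearMap.id := by
  refine LinearMap.ext fun a => U_injective ?_
  rw [lin_apply, LinearMap.id_apply, ← act_spec, Subgroup.coe_one, one_smul]
  rfl

/-- the matrix of the action -/
noncomputable def mat (g : C7) : Matrix (Fin 3) (Fin 3) (ZMod 2) := LinearMap.toMatrix' (lin g)

theorem det_mat (g : C7) : (mat g).det = 1 := by
  have h : mat g * mat g⁻¹ = 1 := by
    rw [mat, mat, ← LinearMap.toMatrix'_comp, ← lin_mul, mul_inv_cancel, lin_one, LinearMap.toMatrix'_id]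
  have h' := congrArg Matrix.det h
  rw [Matrix.det_mul, Matrix.det_one] at h'
  rcases H95.zmod2_cases (mat g).det with e | e
  · rw [e, zero_mul] at h'; exact absurd h' zero_ne_one
  · exact e

/-- the homomorphism onto `SL(3,2)` -/
noncomputable def toSL : C7 →* Matrix.SpecialLinearGroup (Fin 3) (ZMod 2) :=
  MonoidHom.mk' (fun g => ⟨mat g, det_mat g⟩) fun g h => Subtype.ext (by
    show mat (g * h) = mat g * mat h
    rw [mat, mat, mat, lin_mul, LinearMap.toMatrix'_comp])

theorem toSL_apply (g : C7) (a : Fin 3 → ZMod 2) :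
    (toSL g : Matrix (Fin 3) (Fin 3) (ZMod 2)).mulVec a = act g a := by
  show (mat g).mulVec a = _
  rw [← Matrix.toLin'_apply, mat, Matrix.toLin'_toMatrix', lin_apply]

theorem act_of_img {g : C7} {a b : Fin 3 → ZMod 2} (h : img g (uId a) = uId b) : act g a = b := by
  apply U_injective
  rw [← act_spec, U, ← h]
  exact img_spec g _

theorem img_of_act (g : C7) (a : Fin 3 → ZMod 2) : img g (uId a) = uId (act g a) :=
  img_eq (act_spec g a)

/-! ### surjectivity -/

theorem stab_trans : ∀ b c : Fin 3 → ZMod 2, b ≠ 0 → b ≠ ![1, 0, 0] → c ≠ 0 → c ≠ ![1, 0, 0] →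
    c ≠ b → c ≠ b + ![1, 0, 0] → (stabL.any fun e =>
      sigA e.1 e.2 (tb (uId ![1, 0, 0]).val) == sigL (tb (uId ![1, 0, 0]).val) &&
        (sigA e.1 e.2 (tb (uId ![0, 1, 0]).val) == sigL (tb (uId b).val) &&
          sigA e.1 e.2 (tb (uId ![0, 0, 1]).val) == sigL (tb (uId c).val))) = true := by
  decide +kernel

theorem basis_eq (a : Fin 3 → ZMod 2) :
    a = (a 0) • (![1, 0, 0] : Fin 3 → ZMod 2) + (a 1) • ![0, 1, 0] + (a 2) • ![0, 0, 1] := by
  revert a; decide +kernel

theorem toSL_surjective : Function.Surjective toSL := by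
  intro M
  have hMinj : Function.Injective (M : Matrix (Fin 3) (Fin 3) (ZMod 2)).mulVec := by
    refine Function.LeftInverse.injective
      (g := ((M⁻¹ : Matrix.SpecialLinearGroup (Fin 3) (ZMod 2)) :
        Matrix (Fin 3) (Fin 3) (ZMod 2)).mulVec) fun a => ?_
    rw [Matrix.mulVec_mulVec, ← Matrix.SpecialLinearGroup.coe_mul, inv_mul_cancel,
      Matrix.SpecialLinearGroup.coe_one, Matrix.one_mulVec]
  set e1 : Fin 3 → ZMod 2 := ![1, 0, 0] with he1
  set v := (M : Matrix (Fin 3) (Fin 3) (ZMod 2)).mulVec e1 with hv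
  have hv0 : v ≠ 0 := fun h => by
    have := hMinj (h.trans (Matrix.mulVec_zero _).symm)
    exact absurd this (by decide)
  obtain ⟨g, hg⟩ := reach_U (uId v) ((uId_mem v).resolve_left fun h => hv0 h.1)
  have hg1 : act g e1 = v := act_of_img (by rw [he1, uId_basis.1]; exact hg)
  have hginv : ∀ a, act g⁻¹ (act g a) = a := fun a => by
    rw [← lin_apply, ← lin_apply g a, ← LinearMap.comp_apply, ← lin_mul, inv_mul_cancel, lin_one,
      LinearMap.id_apply]
  have hgi : Function.Injective (act g⁻¹) := by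
    refine Function.LeftInverse.injective (g := act g) fun a => ?_
    rw [← lin_apply, ← lin_apply g⁻¹ a, ← LinearMap.comp_apply, ← lin_mul, mul_inv_cancel, lin_one,
      LinearMap.id_apply]
  set b := act g⁻¹ ((M : Matrix (Fin 3) (Fin 3) (ZMod 2)).mulVec ![0, 1, 0]) with hb
  set c := act g⁻¹ ((M : Matrix (Fin 3) (Fin 3) (ZMod 2)).mulVec ![0, 0, 1]) with hc
  have hF : Function.Injective fun a => act g⁻¹ ((M : Matrix (Fin 3) (Fin 3) (ZMod 2)).mulVec a) :=
    hgi.comp hMinj
  have he : act g⁻¹ ((M : Matrix (Fin 3) (Fin 3) (ZMod 2)).mulVec e1) = e1 := by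
    rw [← hv, ← hg1, hginv]
  have h0 : act g⁻¹ ((M : Matrix (Fin 3) (Fin 3) (ZMod 2)).mulVec 0) = 0 := by
    rw [Matrix.mulVec_zero, ← lin_apply, map_zero]
  have hbe : act g⁻¹ ((M : Matrix (Fin 3) (Fin 3) (ZMod 2)).mulVec (![0, 1, 0] + e1)) = b + e1 := by
    rw [Matrix.mulVec_add, act_add, he]
  obtain ⟨e, hel, hes⟩ := List.any_eq_true.mp (stab_trans b c
    (fun h => absurd (hF (h.trans h0.symm)) (by decide))
    (fun h => absurd (hF (h.trans he.symm)) (by decide))
    (fun h => absurd (hF (h.trans h0.symm)) (by decide))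
    (fun h => absurd (hF (h.trans he.symm)) (by decide))
    (fun h => absurd (hF h) (by decide))
    (fun h => absurd (hF (h.trans hbe.symm)) (by decide)))
  simp only [Bool.and_eq_true, beq_iff_eq] at hes
  obtain ⟨m, hm⟩ := exists_stab hel
  refine ⟨g * m, Subtype.ext ?_⟩
  have key : ∀ a, act m a = act g⁻¹ ((M : Matrix (Fin 3) (Fin 3) (ZMod 2)).mulVec a) := by
    intro a
    rw [basis_eq a]
    simp only [← lin_apply, map_add, map_smul, Matrix.mulVec_add, Matrix.mulVec_smul]
    simp only [lin_apply]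
    rw [act_of_img (hm _ _ hes.1), act_of_img (hm _ _ hes.2.1), act_of_img (hm _ _ hes.2.2), he]
  refine Matrix.ext_of_mulVec_single fun i => ?_
  rw [toSL_apply]
  show act (g * m) _ = _
  rw [← lin_apply, lin_mul, LinearMap.comp_apply, lin_apply, lin_apply, key, ← lin_apply,
    ← lin_apply g⁻¹, ← LinearMap.comp_apply, ← lin_mul, mul_inv_cancel, lin_one, LinearMap.id_apply]

/-! ### the kernel -/

/-- sign masks invariant under the element of order seven -/
def maskL : List ℕ := [0, 5279, 5621792, 5627071, 11150144, 11155423, 16771936, 16777215]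

theorem omask_mem : ∀ b : Fin 6 → Bool, H90.isCode (omask (List.ofFn b)) = true →
    omask (List.ofFn b) ∈ maskL := by
  decide +kernel

theorem ker_check : (cent7List.all fun P => maskL.all fun m =>
    !(sigA P m (tb 50) == sigL (tb 50) && (sigA P m (tb 56) == sigL (tb 56) &&
        sigA P m (tb 57) == sigL (tb 57))) ||
      ((List.range 7).any fun k => peq P (pow7 k)) && (Nat.beq m 0 || Nat.beq m 16777215)) = true := by
  decide +kernel

theorem mono_gp_univ {k : ℕ} {hc : H90.setOf' 16777215 ∈ supports (golayCode : Set (GolayPt → ZMod 2))} :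
    mono (s7 ^ k) (H90.setOf' 16777215) (s7_pow_mem k) hc = negOne * gp k := by
  refine co0_ext fun v => Subtype.ext ?_
  rw [mul_smul, negOne_smul, mono_smul, AddSubgroup.coe_neg, gp, mono_smul]
  funext i
  have hi : i ∈ H90.setOf' 16777215 := by
    rw [mem_setOf'_idxN, show (16777215 : ℕ) = 2 ^ 24 - 1 from rfl, Nat.testBit_two_pow_sub_one]
    simp [idxN_lt]
  simp [signedPerm, hi]

/-- an element acting trivially is a power of the element of order seven up to sign -/
theorem kernel_eq {g : C7} (hg : toSL g = 1) :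
    ∃ k : ℕ, (g : Co0) = gp k ∨ (g : Co0) = negOne * gp k := by
  have hact : ∀ a, act g a = a := fun a => by
    rw [← toSL_apply, hg, Matrix.SpecialLinearGroup.coe_one, Matrix.one_mulVec]
  have h50 : img g 50 = 50 := by
    have := img_of_act g ![1, 0, 0]; rwa [hact, uId_basis.1] at this
  have h56 : img g 56 = 56 := by
    have := img_of_act g ![0, 1, 0]; rwa [hact, uId_basis.2.1] at this
  have h57 : img g 57 = 57 := by
    have := img_of_act g ![0, 0, 1]; rwa [hact, uId_basis.2.2] at this
  have hfix : cls ((g : Co0) • tv 50) = cls (tv 50) := by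
    have := img_spec g 50; rwa [h50] at this
  obtain ⟨σ, c, hσ, hc, hmono⟩ := H56M.mono_of_fix_frame (cls_fifty.mp hfix)
  have hcomm := mem_C7.mp g.2
  rw [hmono, mono_mul_gp, g7, gp_mul_mono] at hcomm
  obtain ⟨hperm, hcset⟩ := mono_injective hcomm
  rw [pow_one] at hperm hcset
  obtain ⟨P, hP, hR⟩ := norm7_complete s7_reps hσ ⟨0, by norm_num, by rw [pow_one]; exact hperm⟩
  have hPc : P ∈ cent7List := List.mem_filter.mpr
    ⟨hP, (hR.mul s7_reps).peq_of_eq (hperm ▸ s7_reps.mul hR)⟩
  have hinv : ∀ p, (s7 p ∈ c ↔ p ∈ c) := fun p => by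
    conv_lhs => rw [hcset, ← Equiv.Perm.smul_def, Finset.smul_mem_smul_finset_iff]
  have hinvk : ∀ (k : ℕ) p, ((s7 ^ k) p ∈ c ↔ p ∈ c) := by
    intro k
    induction k with
    | zero => simp
    | succ k ih => intro p; rw [pow_succ', Equiv.Perm.mul_apply, hinv, ih]
  let b : Fin 6 → Bool := fun j => decide (ptN (([5, 9, 10, 0, 6, 11] : List ℕ).getD j.val 0) ∈ c)
  have hcm : c = H90.setOf' (omask (List.ofFn b)) := by
    ext p
    obtain ⟨n, -, hn⟩ := cycle_facts _ (idxN_lt p)
    have hlt := orbI_lt _ (idxN_lt p)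
    rw [mem_setOf'_idxN, show idxN p = (H90.idx p).val from rfl, (omask_ok b).2.1 (H90.idx p),
      List.getD_eq_getElem _ _ (by rw [List.length_ofFn]; exact hlt), List.getElem_ofFn]
    show p ∈ c ↔ decide (ptN (([5, 9, 10, 0, 6, 11] : List ℕ).getD (orbI (idxN p)) 0) ∈ c) = true
    rw [decide_eq_true_eq]
    set r := ([5, 9, 10, 0, 6, 11] : List ℕ).getD (orbI (idxN p)) 0
    have hr : r < 24 := (by decide : ∀ j < 6, ([5, 9, 10, 0, 6, 11] : List ℕ).getD j 0 < 24) _ hlt
    have hp : p = (s7 ^ n) (ptN r) := idxN_injective (by rw [← (pow7_reps s7_reps n) r hr, hn])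
    conv_lhs => rw [hp, hinvk]
  have hcode : H90.isCode (omask (List.ofFn b)) = true :=
    (H90.setOf'_mem_supports_iff (omask_ok b).1).mp (hcm ▸ hc)
  set m := omask (List.ofFn b) with hmdef
  have hs : ∀ i : Fin 64, img g i = i → sigA P m (tb i.val) = sigL (tb i.val) := fun i hi => by
    rw [← sig_mono (hσ := hσ) (hc := hc) hR hcm, ← hmono, sig_img g i, hi]
  have hk := List.all_eq_true.mp (List.all_eq_true.mp ker_check P hPc) m (omask_mem b hcode)
  rw [show sigA P m (tb 50) = sigL (tb 50) from hs 50 h50,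
    show sigA P m (tb 56) = sigL (tb 56) from hs 56 h56,
    show sigA P m (tb 57) = sigL (tb 57) from hs 57 h57] at hk
  simp only [beq_self_eq_true, Bool.and_true, Bool.not_true, Bool.false_or, Bool.and_eq_true,
    Bool.or_eq_true, List.any_eq_true] at hk
  obtain ⟨⟨k, -, hpk⟩, hmk⟩ := hk
  have hσk : σ = s7 ^ k := hR.eq_of_peq (pow7_reps s7_reps k) hpk
  subst hσk
  refine ⟨k, ?_⟩
  rcases hmk with hm0 | hm1
  · left
    rw [Nat.eq_of_beq_eq_true hm0, ← empty_mask] at hcm
    subst hcm
    exact hmono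
  · right
    rw [Nat.eq_of_beq_eq_true hm1] at hcm
    subst hcm
    rw [hmono, mono_gp_univ]

end H73.Mon7
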