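import Cfsg.Agent.H95.MatElt

/-!
Data for an element of order seven of the lattice group: orbits on the 24 coordinates, representatives of
the 64 fixed classes modulo two, and two matrices.
-/

set_option autoImplicit false

namespace H73.Mon7

/-- the orbit of a position -/
def orbL : List ℕ := [3, 3, 3, 3, 3, 0, 4, 3, 4, 1, 2, 5, 3, 4, 5, 5, 5, 4, 5, 4, 5, 4, 5, 4]

/-- coordinates on the six orbits of the representatives of fixed classes -/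
def tblL : List (List ℤ) := [[0, 0, 0, 0, 0, 0],
  [-4, -4, 0, 0, 0, 0],
  [-4, 0, -4, 0, 0, 0],
  [-4, 0, 4, 0, 0, 0],
  [-4, 4, 0, 0, 0, 0],
  [-3, -1, -1, -1, -1, 1],
  [-3, -1, 1, 1, -1, 1],
  [-3, 1, -1, -1, 1, 1],
  [-3, 1, 1, 1, 1, 1],
  [-2, 0, 0, 0, 0, -2],
  [-1, -3, -1, -1, 1, -1],
  [-1, -3, 1, 1, 1, -1],
  [-1, -1, -3, 1, -1, -1],
  [-1, -1, 3, -1, -1, -1],
  [-1, 1, -3, 1, 1, -1],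
  [-1, 1, 3, -1, 1, -1],
  [-1, 3, -1, -1, -1, -1],
  [-1, 3, 1, 1, -1, -1],
  [0, -4, -4, 0, 0, 0],
  [0, -4, 4, 0, 0, 0],
  [0, -2, 0, 0, -2, 0],
  [0, 0, -2, -2, 0, 0],
  [-5, -1, -1, -1, -1, -1],
  [-5, -1, 1, 1, -1, -1],
  [-5, 1, -1, -1, 1, -1],
  [-5, 1, 1, 1, 1, -1],
  [-4, -2, 0, 0, 2, 0],
  [-4, 0, -2, 2, 0, 0],
  [-4, 0, 2, -2, 0, 0],
  [-4, 2, 0, 0, -2, 0],
  [-3, -3, -3, 1, 1, 1],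
  [-3, -3, 3, -1, 1, 1],
  [-3, 3, -3, 1, -1, 1],
  [-3, 3, 3, -1, -1, 1],
  [-2, -4, 0, 0, 0, 2],
  [-2, 0, -4, 0, 0, 2],
  [-2, 0, 4, 0, 0, 2],
  [-2, 4, 0, 0, 0, 2],
  [-1, -5, -1, -1, -1, -1],
  [-1, -5, 1, 1, -1, -1],
  [-1, -1, -5, -1, -1, -1],
  [-1, -1, 5, 1, -1, -1],
  [-1, 1, -5, -1, 1, -1],
  [-1, 1, 5, 1, 1, -1],
  [-1, 5, -1, -1, 1, -1],
  [-1, 5, 1, 1, 1, -1],
  [0, -4, -2, 2, 0, 0],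
  [0, -4, 2, -2, 0, 0],
  [0, -2, -4, 0, 2, 0],
  [0, -2, 4, 0, 2, 0],
  [-8, 0, 0, 0, 0, 0],
  [-6, 0, 0, 0, 0, 2],
  [-5, -3, -3, 1, 1, -1],
  [-5, -3, 3, -1, 1, -1],
  [-5, 3, -3, 1, -1, -1],
  [-5, 3, 3, -1, -1, -1],
  [-4, -4, -2, -2, 0, 0],
  [-4, -2, -4, 0, -2, 0],
  [-4, -2, 4, 0, -2, 0],
  [-4, 4, -2, -2, 0, 0],
  [-2, -4, -4, 0, 0, -2],
  [-2, -4, 4, 0, 0, -2],
  [-2, -2, 0, 0, -2, -2],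
  [-2, 0, -2, -2, 0, -2]]

/-- their norms -/
def normL : List ℤ := [0, 32, 32, 32, 32, 32, 32, 32, 32, 32, 32, 32, 32, 32, 32, 32, 32, 32, 32, 32, 32, 32, 48, 48, 48, 48, 48, 48, 48, 48, 48, 48, 48, 48, 48, 48, 48, 48, 48, 48, 48, 48, 48, 48, 48, 48, 48, 48, 48, 48, 64, 64, 64, 64, 64, 64, 64, 64, 64, 64, 64, 64, 64, 64]

/-- eight times an element centralising the seven-element and moving the frame -/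
def hE : List (List ℤ) := [[-2, -2, -2, 2, 2, 0, -2, -2, 2, -2, -2, 0, 2, 2, 0, 0, 0, 2, 0, -2, 0, -2, 0, -2],
  [2, -2, -2, -2, 2, 0, -2, 2, -2, -2, -2, 0, -2, 2, 0, 0, 0, -2, 0, 2, 0, -2, 0, 2],
  [-2, 2, -2, -2, -2, 0, -2, 2, 2, -2, -2, 0, 2, -2, 0, 0, 0, -2, 0, -2, 0, 2, 0, 2],
  [2, -2, 2, -2, -2, 0, 2, -2, 2, -2, -2, 0, 2, -2, 0, 0, 0, -2, 0, 2, 0, -2, 0, -2],
  [2, 2, -2, 2, -2, 0, -2, -2, -2, -2, -2, 0, -2, -2, 0, 0, 0, 2, 0, 2, 0, 2, 0, -2],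
  [0, 0, 0, 0, 0, -2, 0, 0, 0, 4, -4, -2, 0, 0, -2, -2, -2, 0, -2, 0, -2, 0, -2, 0],
  [0, 0, 0, 0, -4, -2, 0, 0, 0, 0, 0, -2, 0, 4, -2, 2, 2, 0, -2, 0, 2, 0, 2, 0],
  [-2, 2, 2, -2, 2, 0, 2, -2, -2, -2, -2, 0, -2, 2, 0, 0, 0, -2, 0, -2, 0, 2, 0, -2],
  [0, -4, 0, 0, 0, -2, 0, 0, 0, 0, 0, 2, 0, 0, 2, 2, -2, 0, -2, 0, -2, 4, 2, 0],
  [0, 0, 0, 0, 0, 2, 0, 0, 0, 4, -4, 2, 0, 0, 2, 2, 2, 0, 2, 0, 2, 0, 2, 0],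
  [2, 2, 2, 2, 2, 0, 2, 2, 2, -2, -2, 0, 2, 2, 0, 0, 0, 2, 0, 2, 0, 2, 0, 2],
  [0, 0, 0, 0, 0, 2, 0, -4, 0, 0, 0, 2, 0, 0, -2, 2, 2, 0, -2, 0, -2, 0, -2, 4],
  [-2, -2, 2, 2, -2, 0, 2, 2, -2, -2, -2, 0, -2, -2, 0, 0, 0, 2, 0, -2, 0, -2, 0, 2],
  [0, 0, 0, 0, 0, -2, 0, 0, 4, 0, 0, 2, -4, 0, -2, 2, -2, 0, 2, 0, 2, 0, -2, 0],
  [0, 0, 0, 0, -4, 2, 0, 0, 0, 0, 0, 2, 0, 4, 2, -2, -2, 0, 2, 0, -2, 0, -2, 0],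
  [0, 0, 0, -4, 0, 2, 0, 0, 0, 0, 0, -2, 0, 0, 2, 2, -2, 4, -2, 0, 2, 0, -2, 0],
  [0, 0, 0, 0, 0, 2, 0, 0, 4, 0, 0, -2, -4, 0, 2, -2, 2, 0, -2, 0, -2, 0, 2, 0],
  [0, 0, 0, 0, 0, -2, 0, -4, 0, 0, 0, -2, 0, 0, 2, -2, -2, 0, 2, 0, 2, 0, 2, 4],
  [0, 0, -4, 0, 0, 2, 4, 0, 0, 0, 0, -2, 0, 0, -2, 2, -2, 0, 2, 0, -2, 0, 2, 0],
  [0, 0, -4, 0, 0, -2, 4, 0, 0, 0, 0, 2, 0, 0, 2, -2, 2, 0, -2, 0, 2, 0, -2, 0],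
  [0, -4, 0, 0, 0, 2, 0, 0, 0, 0, 0, -2, 0, 0, -2, -2, 2, 0, 2, 0, 2, 4, -2, 0],
  [0, 0, 0, -4, 0, -2, 0, 0, 0, 0, 0, 2, 0, 0, -2, -2, 2, 4, 2, 0, -2, 0, 2, 0],
  [-4, 0, 0, 0, 0, 2, 0, 0, 0, 0, 0, 2, 0, 0, -2, -2, -2, 0, -2, 4, 2, 0, 2, 0],
  [-4, 0, 0, 0, 0, -2, 0, 0, 0, 0, 0, -2, 0, 0, 2, 2, 2, 0, 2, 4, -2, 0, -2, 0]]

/-- eight times an element inverting the seven-element -/
def kE : List (List ℤ) := [[-2, -2, -2, 2, 2, 0, -2, -2, 2, 2, 2, 0, 2, 2, 0, 0, 0, 2, 0, -2, 0, -2, 0, -2],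
  [-2, -2, 2, 2, -2, 0, 2, 2, -2, 2, 2, 0, -2, -2, 0, 0, 0, 2, 0, -2, 0, -2, 0, 2],
  [-2, 2, 2, -2, 2, 0, 2, -2, -2, 2, 2, 0, -2, 2, 0, 0, 0, -2, 0, -2, 0, 2, 0, -2],
  [2, 2, -2, 2, -2, 0, -2, -2, -2, 2, 2, 0, -2, -2, 0, 0, 0, 2, 0, 2, 0, 2, 0, -2],
  [2, -2, 2, -2, -2, 0, 2, -2, 2, 2, 2, 0, 2, -2, 0, 0, 0, -2, 0, 2, 0, -2, 0, -2],
  [0, 0, 0, 0, 0, 6, 0, 0, 0, 0, 0, -2, 0, 0, -2, -2, -2, 0, -2, 0, -2, 0, -2, 0],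
  [2, -2, -2, 2, -2, 0, 2, 2, -2, 2, -2, 0, 2, 2, 0, 0, 0, -2, 0, -2, 0, 2, 0, -2],
  [-2, 2, -2, -2, -2, 0, -2, 2, 2, 2, 2, 0, 2, -2, 0, 0, 0, -2, 0, -2, 0, 2, 0, 2],
  [-2, 2, 2, 2, -2, 0, -2, -2, -2, 2, -2, 0, 2, 2, 0, 0, 0, -2, 0, 2, 0, -2, 0, 2],
  [-2, -2, -2, -2, -2, 0, 2, -2, 2, 2, -2, 0, -2, 2, 0, 0, 0, 2, 0, 2, 0, 2, 0, 2],
  [2, 2, 2, 2, 2, 0, 2, 2, 2, 2, 2, 0, 2, 2, 0, 0, 0, 2, 0, 2, 0, 2, 0, 2],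
  [0, 0, 0, 0, 0, -2, 0, 0, 0, 0, 0, -2, 0, 0, -2, -2, -2, 0, -2, 0, 6, 0, -2, 0],
  [2, -2, -2, -2, 2, 0, -2, 2, -2, 2, 2, 0, -2, 2, 0, 0, 0, -2, 0, 2, 0, -2, 0, 2],
  [-2, 2, -2, 2, 2, 0, 2, 2, 2, 2, -2, 0, -2, -2, 0, 0, 0, -2, 0, 2, 0, -2, 0, -2],
  [0, 0, 0, 0, 0, -2, 0, 0, 0, 0, 0, -2, 0, 0, -2, -2, -2, 0, 6, 0, -2, 0, -2, 0],
  [0, 0, 0, 0, 0, -2, 0, 0, 0, 0, 0, -2, 0, 0, -2, 6, -2, 0, -2, 0, -2, 0, -2, 0],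
  [0, 0, 0, 0, 0, -2, 0, 0, 0, 0, 0, -2, 0, 0, -2, -2, -2, 0, -2, 0, -2, 0, 6, 0],
  [-2, -2, 2, -2, 2, 0, -2, 2, -2, 2, -2, 0, 2, -2, 0, 0, 0, 2, 0, 2, 0, 2, 0, -2],
  [0, 0, 0, 0, 0, -2, 0, 0, 0, 0, 0, -2, 0, 0, 6, -2, -2, 0, -2, 0, -2, 0, -2, 0],
  [2, 2, 2, -2, -2, 0, -2, 2, 2, 2, -2, 0, -2, 2, 0, 0, 0, 2, 0, -2, 0, -2, 0, -2],
  [0, 0, 0, 0, 0, -2, 0, 0, 0, 0, 0, 6, 0, 0, -2, -2, -2, 0, -2, 0, -2, 0, -2, 0],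
  [2, 2, -2, -2, 2, 0, 2, -2, -2, 2, -2, 0, 2, -2, 0, 0, 0, 2, 0, -2, 0, -2, 0, 2],
  [0, 0, 0, 0, 0, -2, 0, 0, 0, 0, 0, -2, 0, 0, -2, -2, 6, 0, -2, 0, -2, 0, -2, 0],
  [2, -2, 2, 2, 2, 0, -2, -2, 2, 2, -2, 0, -2, -2, 0, 0, 0, -2, 0, -2, 0, 2, 0, 2]]

/-- monomial elements centralising the seven-element: permutation and sign mask -/
def stabL : List (ℕ × ℕ) := [(984818244535754528103549039458486304, 0),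
  (984818244535754528103549039458486304, 5279),
  (984818244535754528103549039458486304, 5621792),
  (984818244535754528103549039458486304, 5627071),
  (23506141934767947490337935548200486, 0),
  (23506141934767947490337935548200486, 5279),
  (23506141934767947490337935548200486, 5621792),
  (23506141934767947490337935548200486, 5627071),
  (944319304547998642267612847938832416, 0),
  (944319304547998642267612847938832416, 5279),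
  (944319304547998642267612847938832416, 5621792),
  (944319304547998642267612847938832416, 5627071),
  (68967938930956889527106705321253387, 0),
  (68967938930956889527106705321253387, 5279),
  (68967938930956889527106705321253387, 5621792),
  (68967938930956889527106705321253387, 5627071),
  (748138786229623130258032050779698726, 0),
  (748138786229623130258032050779698726, 5279),
  (748138786229623130258032050779698726, 5621792),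
  (748138786229623130258032050779698726, 5627071),
  (874134501862226744738708644489222667, 0),
  (874134501862226744738708644489222667, 5279),
  (874134501862226744738708644489222667, 5621792),
  (874134501862226744738708644489222667, 5627071)]

end H73.Mon7
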