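import Cfsg.Agent.H73.Mon7.Fixed

/-!
The centraliser of the element of order seven on the fixed classes: two orbits of seven frames.
-/

set_option autoImplicit false

namespace H73.Mon7

open Cfsg Finset H95 H94
open scoped Pointwise
open H56M (cls cls_eq cls_add cls_neg)

/-- the centraliser of the element of order seven -/
noncomputable def C7 : Subgroup Co0 := Subgroup.centralizer ({g7} : Set Co0)

theorem mem_C7 {g : Co0} : g ∈ C7 ↔ g * g7 = g7 * g := Subgroup.mem_centralizer_singleton_iff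

theorem g7_mem : g7 ∈ C7 := mem_C7.mpr rfl

theorem fixC_smul {g : Co0} (hg : g ∈ C7) {v : leechLattice} (hv : FixC v) : FixC (g • v) := by
  rw [FixC, ← mul_smul, ← mem_C7.mp hg, mul_smul]
  exact H56M.cls_smul_congr g hv

theorem exists_img {g : Co0} (hg : g ∈ C7) (i : Fin 64) : ∃ j, cls (g • tv i) = cls (tv j) :=
  inT_of_fixC (fixC_smul hg (fixC_tv i))

/-- the image of a tabulated class -/
noncomputable def img (g : C7) (i : Fin 64) : Fin 64 := (exists_img g.2 i).choose

theorem img_spec (g : C7) (i : Fin 64) : cls ((g : Co0) • tv i) = cls (tv (img g i)) :=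
  (exists_img g.2 i).choose_spec

theorem img_eq {g : C7} {i j : Fin 64} (h : cls ((g : Co0) • tv i) = cls (tv j)) : img g i = j :=
  cls_tv_injective ((img_spec g i).symm.trans h)

theorem img_mul (g h : C7) (i : Fin 64) : img (g * h) i = img g (img h i) := by
  refine img_eq ?_
  rw [Subgroup.coe_mul, mul_smul]
  exact (H56M.cls_smul_congr _ (img_spec h i)).trans (img_spec g _)

theorem img_one (i : Fin 64) : img 1 i = i := img_eq (by rw [Subgroup.coe_one, one_smul])

theorem img_of_sig {g : C7} {i j : Fin 64}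
    (h : sigL (vecL (((g : Co0) • tv i : leechLattice) : GolayPt → ℤ)) = sigL (tb j.val)) :
    img g i = j :=
  img_eq (eq_of_sig (fixC_smul g.2 (fixC_tv i)) h)

theorem sig_img (g : C7) (i : Fin 64) :
    sigL (vecL (((g : Co0) • tv i : leechLattice) : GolayPt → ℤ)) = sigL (tb (img g i).val) := by
  rw [← vecL_tv]; exact sigL_congr (img_spec g i)

theorem img_high (g : C7) {i : Fin 64} (hi : 50 ≤ i.val) : 50 ≤ (img g i).val :=
  norm64_index (by rw [co0_dot, ldot_tv, norm_high i hi]) (img_spec g i)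

/-! ### the matrices -/

/-- the checked matrix moving the frame -/
def hMat : MatData := ⟨hE, by decide +kernel, by decide +kernel⟩

/-- the checked matrix inverting the element of order seven -/
def kMat : MatData := ⟨kE, by decide +kernel, by decide +kernel⟩

theorem eq_of_eights {g g' : Co0}
    (h : ∀ i : Fin 24, vecL ((g • eight (H90.pt i) : leechLattice) : GolayPt → ℤ)
      = vecL ((g' • eight (H90.pt i) : leechLattice) : GolayPt → ℤ)) : g = g' := by
  have : g'⁻¹ * g = 1 := co0_eq_one_of_eights fun p => by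
    rw [mul_smul, inv_smul_eq_iff]
    have := eq_of_vecL (h (H90.idx p))
    rwa [H90.pt_idx] at this
  exact (inv_mul_eq_one.mp this).symm

theorem hMat_comm : hMat.elt * g7 = g7 * hMat.elt := by
  refine eq_of_eights fun i => ?_
  rw [mul_smul, mul_smul, MatData.vecL_elt, vecL_g7, vecL_g7, MatData.vecL_elt, vecL_eight]
  revert i
  decide +kernel

theorem gp_six_inv : gp 6 = g7⁻¹ := by rw [eq_inv_iff_mul_eq_one, g7, gp_mul, gp_seven]

theorem kMat_inv : kMat.elt * g7 = gp 6 * kMat.elt := by
  refine eq_of_eights fun i => ?_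
  rw [mul_smul, mul_smul, MatData.vecL_elt, vecL_g7, gp_six_inv, vecL_eight, g7, gp,
    vecL_mono_inv (pow7_reps s7_reps 1) empty_mask, MatData.vecL_elt, vecL_eight]
  revert i
  decide +kernel

/-- the element moving the frame -/
noncomputable def hC : C7 := ⟨hMat.elt, mem_C7.mpr hMat_comm⟩

theorem img_hC {i j : Fin 64} (h : sigL (applyL hE (tb i.val)) = sigL (tb j.val)) : img hC i = j := by
  refine img_of_sig ?_
  show sigL (vecL ((hMat.elt • tv i : leechLattice) : GolayPt → ℤ)) = _
  rw [MatData.vecL_elt, vecL_tv]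
  exact h

theorem k_fifty : cls (kMat.elt • tv 50) = cls (tv 51) := by
  refine eq_of_sig ?_ ?_
  · rw [FixC, ← mul_smul]
    have h1 : g7 * kMat.elt = kMat.elt * gp 6 := by
      rw [eq_comm, gp_six_inv, mul_inv_eq_iff_eq_mul, mul_assoc, kMat_inv, ← mul_assoc, gp_six_inv,
        mul_inv_cancel, one_mul]
    rw [h1, mul_smul, gp_six_inv, inv_smul_eq_iff.mpr (g7_tv 50).symm]
  · rw [MatData.vecL_elt, vecL_tv]
    decide +kernel

/-! ### monomial elements -/

/-- the signature of an image under a monomial element -/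
def sigA (P m : ℕ) (v : List ℤ) : List Bool := basisL.map fun b => parB v (pullL P m (tb b))

theorem sig_mono {σ : Equiv.Perm GolayPt} {c : Finset GolayPt} {hσ : σ ∈ M24}
    {hc : c ∈ supports (golayCode : Set (GolayPt → ZMod 2))} {P m : ℕ} (hP : Reps P σ)
    (hm : c = H90.setOf' m) (i : Fin 64) :
    sigL (vecL ((mono σ c hσ hc • tv i : leechLattice) : GolayPt → ℤ)) = sigA P m (tb i.val) := by
  unfold sigL sigA
  refine List.map_congr_left fun b hb => ?_
  have hb64 : b < 64 := (by decide : ∀ b ∈ basisL, b < 64) b hb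
  rw [← vecL_tv i, show tb b = vecL (tv ⟨b, hb64⟩ : GolayPt → ℤ) from (vecL_tv ⟨b, hb64⟩).symm,
    ← vecL_mono_inv hP hm (hσ := hσ) (hc := hc)]
  unfold parB
  rw [dotL_vecL, dotL_vecL, ← co0_dot (mono σ c hσ hc) (tv i), smul_inv_smul]

theorem mono_mul_gp {σ : Equiv.Perm GolayPt} {c : Finset GolayPt} (hσ : σ ∈ M24)
    (hc : c ∈ supports (golayCode : Set (GolayPt → ZMod 2))) :
    mono σ c hσ hc * g7 = mono (σ * s7) c (M24.mul_mem hσ s7_mem) hc := by
  refine co0_ext fun v => Subtype.ext ?_
  rw [mul_smul, g7, gp, mono_smul, mono_smul, mono_smul, signedPerm_comp]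
  simp [symmDiff_def]

theorem gp_mul_mono {σ : Equiv.Perm GolayPt} {c : Finset GolayPt} (hσ : σ ∈ M24)
    (hc : c ∈ supports (golayCode : Set (GolayPt → ZMod 2))) (k : ℕ) :
    gp k * mono σ c hσ hc = mono (s7 ^ k * σ) ((s7 ^ k) • c) (M24.mul_mem (s7_pow_mem k) hσ)
      (smul_mem_supports (s7_pow_mem k) hc) := by
  refine co0_ext fun v => Subtype.ext ?_
  rw [mul_smul, gp, mono_smul, mono_smul, mono_smul, signedPerm_comp]
  congr 1
  simp [symmDiff_def, Finset.smul_finset_def]

/-- the test on an encoded monomial element -/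
noncomputable def monB (P m : ℕ) : Bool :=
  memB P && peq (pmul P rep7) (pmul rep7 P) && H90.isCode m && Nat.blt m (2 ^ 24) &&
    (List.range 24).all fun i => bitB m (pap rep7 i) == bitB m i

theorem exists_mon {P m : ℕ} (h : monB P m = true) :
    ∃ g : C7, ∀ i : Fin 64, sigL (vecL (((g : Co0) • tv i : leechLattice) : GolayPt → ℤ))
      = sigA P m (tb i.val) := by
  simp only [monB, Bool.and_eq_true] at h
  obtain ⟨⟨⟨⟨hmem, hcomm⟩, hcode⟩, hlt⟩, hinv⟩ := h
  obtain ⟨σ, hσ, hP⟩ := exists_perm_of_memB hmem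
  have hlt' : m < 2 ^ 24 := Nat.le_of_ble_eq_true hlt
  have hc := (H90.setOf'_mem_supports_iff hlt').mpr hcode
  refine ⟨⟨mono σ (H90.setOf' m) hσ hc, mem_C7.mpr ?_⟩, fun i => sig_mono (hσ := hσ) (hc := hc) hP rfl i⟩
  rw [mono_mul_gp, g7, gp_mul_mono]
  have hfix : (s7 ^ 1) • H90.setOf' m = H90.setOf' m := by
    rw [pow_one]
    ext q
    rw [Finset.mem_smul_finset]
    have key : ∀ p, (s7 p ∈ H90.setOf' m ↔ p ∈ H90.setOf' m) := fun p => by
      have := List.all_eq_true.mp hinv _ (List.mem_range.mpr (idxN_lt p))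
      rw [beq_iff_eq, bitB_eq, bitB_eq, s7_reps _ (idxN_lt p), ptN_idxN] at this
      rw [mem_setOf'_idxN, mem_setOf'_idxN, this]
    constructor
    · rintro ⟨p, hp, rfl⟩; exact (key p).mpr hp
    · intro hq
      exact ⟨s7.symm q, (key _).mp (by rwa [Equiv.apply_symm_apply]), by simp [Equiv.Perm.smul_def]⟩
  simp only [hfix]
  congr 1
  rw [pow_one]
  exact (hP.mul s7_reps).eq_of_peq (s7_reps.mul hP) hcomm

theorem stab_ok : stabL.all (fun e => monB e.1 e.2) = true := by decide +kernel

theorem exists_stab {e : ℕ × ℕ} (he : e ∈ stabL) :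
    ∃ g : C7, ∀ i j : Fin 64, sigA e.1 e.2 (tb i.val) = sigL (tb j.val) → img g i = j := by
  obtain ⟨g, hg⟩ := exists_mon (List.all_eq_true.mp stab_ok e he)
  exact ⟨g, fun i j h => img_of_sig ((hg i).trans h)⟩

/-! ### the two orbits -/

/-- reachable under the centraliser -/
def Reach (i j : Fin 64) : Prop := ∃ g : C7, img g i = j

theorem Reach.step_h {i j k : Fin 64} (h : Reach i j)
    (hs : sigL (applyL hE (tb j.val)) = sigL (tb k.val)) : Reach i k := by
  obtain ⟨g, rfl⟩ := h
  exact ⟨hC * g, by rw [img_mul, img_hC hs]⟩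

theorem Reach.step_m {i j k : Fin 64} (h : Reach i j)
    (hs : stabL.any (fun e => sigA e.1 e.2 (tb j.val) == sigL (tb k.val)) = true) : Reach i k := by
  obtain ⟨g, rfl⟩ := h
  obtain ⟨e, he, he'⟩ := List.any_eq_true.mp hs
  obtain ⟨m, hm⟩ := exists_stab he
  exact ⟨m * g, by rw [img_mul, hm _ _ (beq_iff_eq.mp he')]⟩

/-- the orbit of the frame -/
def inU : List (Fin 64) := [50, 56, 57, 58, 59, 60, 61]

/-- the other orbit -/
def inW : List (Fin 64) := [51, 52, 53, 54, 55, 62, 63]

theorem reach_U : ∀ j ∈ inU, Reach 50 j := by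
  have r50 : Reach 50 50 := ⟨1, img_one 50⟩
  have r56 : Reach 50 56 := r50.step_h (by decide +kernel)
  simp only [inU, List.forall_mem_cons, List.forall_mem_nil, and_true]
  exact ⟨r50, r56, r56.step_m (by decide +kernel), r56.step_m (by decide +kernel),
    r56.step_m (by decide +kernel), r56.step_m (by decide +kernel), r56.step_h (by decide +kernel),
    fun x hx => absurd hx List.not_mem_nil⟩

theorem reach_W : ∀ j ∈ inW, Reach 51 j := by
  have r51 : Reach 51 51 := ⟨1, img_one 51⟩
  have r62 : Reach 51 62 := r51.step_h (by decide +kernel)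
  have r54 : Reach 51 54 := r62.step_h (by decide +kernel)
  have r63 : Reach 51 63 := r51.step_m (by decide +kernel)
  simp only [inW, List.forall_mem_cons, List.forall_mem_nil, and_true]
  exact ⟨r51, r54.step_m (by decide +kernel), r54.step_m (by decide +kernel), r54,
    r63.step_h (by decide +kernel), r62, r63, fun x hx => absurd hx List.not_mem_nil⟩

theorem no_invert : (norm7List.all fun P => !peq (pmul P rep7) (pmul (pow7 6) P)) = true := by
  decide +kernel

theorem cls_fifty {g : Co0} : cls (g • tv 50) = cls (tv 50) ↔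
    cls (g • eight none) = cls (eight none) := by
  rw [← cls_frame, H56M.cls_smul_congr g cls_frame]

theorem not_W (g : C7) : img g 50 ∉ inW := by
  intro hj
  obtain ⟨a, ha⟩ := reach_W _ hj
  set m : Co0 := ((a : Co0) * kMat.elt)⁻¹ * g with hm
  have hfix : cls (m • tv 50) = cls (tv 50) := by
    have h1 : cls (((a : Co0) * kMat.elt) • tv 50) = cls ((g : Co0) • tv 50) := by
      rw [mul_smul]
      exact ((H56M.cls_smul_congr _ k_fifty).trans (img_spec a 51)).trans
        (ha ▸ (img_spec g 50).symm)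
    rw [hm, mul_smul, H56M.cls_smul_congr _ h1.symm, inv_smul_smul]
  obtain ⟨σ, c, hσ, hc, hmono⟩ := H56M.mono_of_fix_frame (cls_fifty.mp hfix)
  have ha6 : gp 6 * (a : Co0) = a * gp 6 := by
    rw [← g7_pow]; exact ((Commute.pow_right (mem_C7.mp a.2) 6).eq).symm
  have hmg : m * g7 = gp 6 * m := by
    have h1 : ((a : Co0) * kMat.elt) * g7 = gp 6 * ((a : Co0) * kMat.elt) := by
      rw [mul_assoc, kMat_inv, ← mul_assoc, ← ha6, mul_assoc]
    have h2 : (g : Co0) * g7 = g7 * g := mem_C7.mp g.2
    have h3 : gp 6 * ((a : Co0) * kMat.elt)⁻¹ = ((a : Co0) * kMat.elt)⁻¹ * g7 := by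
      rw [gp_six_inv] at h1 ⊢
      have h4 := congrArg (·⁻¹) h1
      simp only [mul_inv_rev, inv_inv] at h4
      rw [mul_inv_rev]
      exact h4
    rw [hm, ← mul_assoc, h3, mul_assoc, h2, ← mul_assoc]
  rw [hmono, mono_mul_gp, gp_mul_mono] at hmg
  have hperm := (mono_injective hmg).1
  obtain ⟨P, hP, hR⟩ := norm7_complete s7_reps hσ ⟨5, by norm_num, hperm⟩
  have h := List.all_eq_true.mp no_invert P hP
  have h5 : Reps (pmul P rep7) (s7 ^ 6 * σ) := by rw [← hperm]; exact hR.mul s7_reps
  rw [h5.peq_of_eq ((pow7_reps s7_reps 6).mul hR)] at h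
  exact Bool.noConfusion h

theorem high_cases : ∀ j : Fin 64, 50 ≤ j.val → j ∈ inU ∨ j ∈ inW := by decide +kernel

theorem img_fifty_U (g : C7) : img g 50 ∈ inU :=
  (high_cases _ (img_high g (by decide))).resolve_right (not_W g)

theorem img_U (g : C7) {i : Fin 64} (hi : i ∈ inU) : img g i ∈ inU := by
  obtain ⟨a, rfl⟩ := reach_U i hi
  rw [← img_mul]
  exact img_fifty_U _

end H73.Mon7
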