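import Cfsg.Agent.H73.Mon7.Data
import Cfsg.Agent.H94.Seven
import Cfsg.Agent.H56.MonsterSign

/-!
The classes modulo two of the lattice fixed by a monomial element of order seven: a table of sixty-four
representatives, told apart by inner products with six of them.
-/

set_option autoImplicit false

namespace H73.Mon7

open Cfsg Finset H95 H94
open H56M (cls cls_eq cls_add cls_neg)

/-- the element of order seven -/
theorem exists_seven : ∃ x : Equiv.Perm GolayPt, x ∈ M24 ∧ Reps rep7 x := by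
  have h := pows7_ok
  simp only [Bool.and_eq_true] at h
  exact exists_perm_of_memB h.1.1

/-- the permutation of order seven -/
noncomputable def s7 : Equiv.Perm GolayPt := exists_seven.choose

theorem s7_mem : s7 ∈ M24 := exists_seven.choose_spec.1

theorem s7_reps : Reps rep7 s7 := exists_seven.choose_spec.2

theorem s7_pow : s7 ^ 7 = 1 := by
  have h := pows7_ok
  simp only [Bool.and_eq_true] at h
  exact (pow7_reps s7_reps 7).eq_of_peq reps_one h.1.2

theorem s7_pow_mem (k : ℕ) : s7 ^ k ∈ M24 := M24.pow_mem s7_mem k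

/-- the powers of the monomial element of order seven -/
noncomputable def gp (k : ℕ) : Co0 := mono (s7 ^ k) ∅ (s7_pow_mem k) H56M.empty_supp

/-- the monomial element of order seven -/
noncomputable def g7 : Co0 := gp 1

theorem gp_zero : gp 0 = 1 := by
  refine co0_ext fun v => Subtype.ext ?_
  rw [gp, mono_smul, one_smul]
  funext i
  simp [signedPerm, Equiv.Perm.one_def]

theorem gp_mul (a b : ℕ) : gp a * gp b = gp (a + b) := by
  refine co0_ext fun v => Subtype.ext ?_
  rw [mul_smul, gp, gp, gp, mono_smul, mono_smul, mono_smul, signedPerm_comp]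
  simp [pow_add]

theorem g7_pow (k : ℕ) : g7 ^ k = gp k := by
  induction k with
  | zero => rw [pow_zero, gp_zero]
  | succ k ih => rw [pow_succ, ih, g7, gp_mul]

theorem gp_seven : gp 7 = 1 := by
  rw [← gp_zero]
  unfold gp
  congr 1
  rw [s7_pow, pow_zero]

theorem g7_seven : g7 ^ 7 = 1 := by rw [g7_pow, gp_seven]

/-! ### list actions -/

/-- the orbit of a position -/
def orbI (i : ℕ) : ℕ := orbL.getD i 0

/-- a vector constant on the orbits -/
def fx (a : List ℤ) : GolayPt → ℤ := fun p => a.getD (orbI (idxN p)) 0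

/-- its coordinates -/
def expL (a : List ℤ) : List ℤ := List.ofFn fun i : Fin 24 => a.getD (orbI i.val) 0

theorem vecL_fx (a : List ℤ) : vecL (fx a) = expL a := by
  unfold vecL fx expL
  congr 1
  funext i
  rw [idxN, H90.idx_pt]

theorem dotL_vecL (v w : leechLattice) :
    dotL (vecL (v : GolayPt → ℤ)) (vecL (w : GolayPt → ℤ)) = ldot v w := by
  show _ = dotInt _ _
  rw [dotInt, ← Equiv.sum_comp H90.ptEquiv]
  conv_lhs => arg 2; unfold vecL
  rw [dotL_ofFn]
  refine sum_congr rfl fun i _ => ?_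
  rw [vecL_getD _ i.isLt, H90.ptEquiv_apply]

/-- pulling coordinates back along a monomial element -/
def pullL (P m : ℕ) (w : List ℤ) : List ℤ :=
  List.ofFn fun i : Fin 24 => if bitB m (pap P i.val) then -(w.getD (pap P i.val) 0)
    else w.getD (pap P i.val) 0

theorem vecL_mono_inv {σ : Equiv.Perm GolayPt} {c : Finset GolayPt} {hσ : σ ∈ M24}
    {hc : c ∈ supports (golayCode : Set (GolayPt → ZMod 2))} {P m : ℕ} (hP : Reps P σ)
    (hm : c = H90.setOf' m) (w : leechLattice) :
    vecL ((((mono σ c hσ hc)⁻¹ • w : leechLattice)) : GolayPt → ℤ)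
      = pullL P m (vecL (w : GolayPt → ℤ)) := by
  set u : leechLattice := (mono σ c hσ hc)⁻¹ • w with hu
  have hw : w = mono σ c hσ hc • u := by rw [hu, smul_inv_smul]
  rw [hw, mono_smul, vecL]
  unfold pullL
  congr 1
  funext i
  have h1 : pap P i.val = idxN (σ (ptN i.val)) := hP i.val i.isLt
  have h2 : ptN i.val = H90.pt i := by
    unfold ptN
    exact congrArg H90.pt (Fin.ext (Nat.mod_eq_of_lt i.isLt))
  rw [vecL_getD _ (hP.pap_lt i.isLt)]
  have h3 : H90.pt ⟨pap P i.val, hP.pap_lt i.isLt⟩ = σ (H90.pt i) := by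
    have : (⟨pap P i.val, hP.pap_lt i.isLt⟩ : Fin 24) = H90.idx (σ (H90.pt i)) := Fin.ext (by
      show pap P i.val = _
      rw [h1, h2]; rfl)
    rw [this, H90.pt_idx]
  rw [h3]
  have h4 : bitB m (pap P i.val) = true ↔ σ (H90.pt i) ∈ c := by
    rw [bitB_eq, hm, mem_setOf'_idxN, h1, h2]
  simp only [signedPerm, Equiv.symm_apply_apply]
  by_cases hmem : σ (H90.pt i) ∈ c
  · rw [if_pos (h4.mpr hmem), if_pos hmem, neg_neg]
  · rw [if_neg (fun h => hmem (h4.mp h)), if_neg hmem]

theorem empty_mask : (∅ : Finset GolayPt) = H90.setOf' 0 := by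
  ext p; simp [H90.mem_setOf']

/-- the forward action of the element of order seven -/
noncomputable def p7L : List ℤ → List ℤ := pullL (pow7 6) 0

theorem vecL_g7 (v : leechLattice) :
    vecL ((g7 • v : leechLattice) : GolayPt → ℤ) = p7L (vecL (v : GolayPt → ℤ)) := by
  have h : g7 = (gp 6)⁻¹ := by
    rw [eq_inv_iff_mul_eq_one, g7, gp_mul, gp_seven]
  rw [h]
  exact vecL_mono_inv (pow7_reps s7_reps 6) empty_mask v

/-! ### the sixty-four representatives -/

/-- table entry -/
def tl (i : ℕ) : List ℤ := tblL.getD i []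

/-- expanded table entry -/
def tb (i : ℕ) : List ℤ := expL (tl i)

/-- six representatives separating the classes -/
def basisL : List ℕ := [1, 2, 3, 5, 6, 7]

/-- parity of an eighth of an inner product -/
def parB (v w : List ℤ) : Bool := decide (dotL v w / 8 % 2 = 1)

/-- the signature of a vector -/
def sigL (v : List ℤ) : List Bool := basisL.map fun b => parB v (tb b)

/-- two coordinate six-tuples differ by twice a lattice vector -/
def clsOK (a b : List ℤ) : Bool :=
  (List.range 6).all (fun j => decide ((a.getD j 0 - b.getD j 0) % 2 = 0)) &&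
    H96.Check.checkB (fx ((List.range 6).map fun j => (a.getD j 0 - b.getD j 0) / 2))

theorem orbI_lt : ∀ i < 24, orbI i < 6 := by decide +kernel

theorem cls_of_clsOK {a b : List ℤ} (ha : fx a ∈ leechLattice) (hb : fx b ∈ leechLattice)
    (h : clsOK a b = true) : cls ⟨fx a, ha⟩ = cls ⟨fx b, hb⟩ := by
  simp only [clsOK, Bool.and_eq_true, List.all_eq_true, List.mem_range, decide_eq_true_eq] at h
  refine cls_eq.mpr ?_
  rw [mem_twice]
  refine ⟨⟨_, H96.Check.checkB_spec h.2⟩, Subtype.ext (funext fun p => ?_)⟩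
  have hlt := orbI_lt _ (idxN_lt p)
  have := h.1 _ hlt
  simp only [AddSubgroup.coe_sub, two_nsmul, AddSubgroup.coe_add, Pi.sub_apply, Pi.add_apply, fx]
  rw [List.getD_eq_getElem ((List.range 6).map _) 0 (by simpa using hlt)]
  simp only [List.getElem_map, List.getElem_range]
  omega

theorem tbl_ok : (List.range 64).all (fun i => H96.Check.checkB (fx (tl i))) = true := by
  decide +kernel

/-- table representative -/
def tv (i : Fin 64) : leechLattice :=
  ⟨fx (tl i.val), H96.Check.checkB_spec (List.all_eq_true.mp tbl_ok i.val (List.mem_range.mpr i.isLt))⟩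

theorem vecL_tv (i : Fin 64) : vecL (tv i : GolayPt → ℤ) = tb i.val := vecL_fx _

theorem norm_ok : ∀ i : Fin 64, dotL (tb i.val) (tb i.val) = normL.getD i.val 0 := by decide +kernel

theorem ldot_tv (i : Fin 64) : ldot (tv i) (tv i) = normL.getD i.val 0 := by
  rw [← dotL_vecL, vecL_tv, norm_ok]

theorem sig_distinct : ∀ i : Fin 64, ∀ j : Fin 64, sigL (tb i.val) = sigL (tb j.val) → i = j := by
  decide +kernel

theorem parB_congr {v v' w : leechLattice} (h : cls v = cls v') :
    parB (vecL (v : GolayPt → ℤ)) (vecL (w : GolayPt → ℤ))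
      = parB (vecL (v' : GolayPt → ℤ)) (vecL (w : GolayPt → ℤ)) := by
  obtain ⟨u, hu⟩ := mem_twice.mp (cls_eq.mp h)
  have e : v = v' + (u + u) := by rw [← two_nsmul, ← hu]; abel
  obtain ⟨k, hk⟩ := leechLike.dvd8 u w
  obtain ⟨l, hl⟩ := leechLike.dvd8 v' w
  unfold parB
  rw [dotL_vecL, dotL_vecL, e, leechLike.add_left, leechLike.add_left, hk, hl]
  congr 1
  apply propext
  omega

theorem sigL_congr {v v' : leechLattice} (h : cls v = cls v') :
    sigL (vecL (v : GolayPt → ℤ)) = sigL (vecL (v' : GolayPt → ℤ)) := by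
  simp only [sigL, basisL, List.map_cons, List.map_nil]
  have key : ∀ b : Fin 64, parB (vecL (v : GolayPt → ℤ)) (tb b.val)
      = parB (vecL (v' : GolayPt → ℤ)) (tb b.val) := fun b => by
    rw [← vecL_tv]; exact parB_congr h
  exact congrArg₂ List.cons (key 1) (congrArg₂ List.cons (key 2) (congrArg₂ List.cons (key 3)
    (congrArg₂ List.cons (key 5) (congrArg₂ List.cons (key 6) (congrArg₂ List.cons (key 7) rfl)))))

/-! ### every fixed class is tabulated -/

/-- the class is fixed by the element of order seven -/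
def FixC (v : leechLattice) : Prop := cls (g7 • v) = cls v

/-- tabulated -/
def InT (v : leechLattice) : Prop := ∃ i : Fin 64, cls v = cls (tv i)

/-- generators of the fixed sublattice -/
def genF : List (List ℤ) :=
  [[-3, -1, -1, -1, -1, 1], [0, 0, 2, 2, 0, 0], [2, 0, 0, 0, 0, 2], [0, 2, 0, 0, 2, 0],
    [4, 4, 0, 0, 0, 0], [4, 0, 4, 0, 0, 0], [4, 0, 0, 4, 0, 0], [4, 0, 0, 0, 4, 0], [4, 0, 0, 0, 0, 4],
    [8, 0, 0, 0, 0, 0]]

theorem genF_ok : genF.all (fun g => H96.Check.checkB (fx g)) = true := by decide +kernel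

theorem genF_closed : ∀ g ∈ genF, ∀ i : Fin 64, ((List.range 64).any fun j =>
    (sigL (expL ((List.range 6).map fun k => (tl i.val).getD k 0 + g.getD k 0)) == sigL (tb j)) &&
      clsOK ((List.range 6).map fun k => (tl i.val).getD k 0 + g.getD k 0) (tl j)) = true := by
  decide +kernel

theorem InT.congr {v w : leechLattice} (h : cls v = cls w) (hw : InT w) : InT v := by
  obtain ⟨i, hi⟩ := hw; exact ⟨i, h.trans hi⟩

theorem InT.add_gen {v : leechLattice} {g : List ℤ} (hg : g ∈ genF) (hv : InT v) :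
    InT (v + ⟨fx g, H96.Check.checkB_spec (List.all_eq_true.mp genF_ok g hg)⟩) := by
  obtain ⟨i, hi⟩ := hv
  obtain ⟨j, hj, hj'⟩ := List.any_eq_true.mp (genF_closed g hg i)
  rw [Bool.and_eq_true] at hj'
  refine ⟨⟨j, List.mem_range.mp hj⟩, ?_⟩
  set gv : leechLattice := ⟨fx g, H96.Check.checkB_spec (List.all_eq_true.mp genF_ok g hg)⟩
  have hsum : fx ((List.range 6).map fun k => (tl i.val).getD k 0 + g.getD k 0)
      = ((tv i + gv : leechLattice) : GolayPt → ℤ) := by
    funext p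
    have hlt := orbI_lt _ (idxN_lt p)
    show List.getD _ _ 0 = fx (tl i.val) p + fx g p
    rw [List.getD_eq_getElem _ 0 (by simpa using hlt)]
    simp [fx]
  have h1 : cls ⟨fx _, hsum ▸ (tv i + gv : leechLattice).2⟩ = cls (tv ⟨j, List.mem_range.mp hj⟩) :=
    cls_of_clsOK _ _ hj'.2
  rw [cls_add, hi, ← cls_add, ← h1]
  exact congrArg cls (Subtype.ext hsum.symm)

theorem InT.add_zsmul {v : leechLattice} {g : List ℤ} (hg : g ∈ genF) (n : ℤ) (hv : InT v) :
    InT (v + n • (⟨fx g, H96.Check.checkB_spec (List.all_eq_true.mp genF_ok g hg)⟩ : leechLattice)) := by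
  set gv : leechLattice := ⟨fx g, H96.Check.checkB_spec (List.all_eq_true.mp genF_ok g hg)⟩
  rcases Int.emod_two_eq_zero_or_one n with h | h
  · refine hv.congr (cls_eq.mpr (mem_twice.mpr ⟨(n / 2) • gv, ?_⟩))
    rw [← natCast_zsmul, ← mul_smul, add_sub_cancel_left]
    congr 1
    push_cast
    omega
  · refine (hv.add_gen hg).congr (cls_eq.mpr (mem_twice.mpr ⟨(n / 2) • gv, ?_⟩))
    rw [← natCast_zsmul, ← mul_smul, add_sub_add_left_eq_sub]
    show n • gv - gv = _
    conv_lhs => arg 2; rw [← one_zsmul gv]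
    rw [← sub_smul]
    congr 1
    push_cast
    omega

theorem cycle_facts : ∀ i < 24,
    ∃ n < 7, pap (pow7 n) ([5, 9, 10, 0, 6, 11].getD (orbI i) 0) = i := by
  decide +kernel

theorem rep_const {y : GolayPt → ℤ} (h : ∀ p, y (s7 p) = y p) :
    ∃ a : List ℤ, y = fx a := by
  refine ⟨([5, 9, 10, 0, 6, 11] : List ℕ).map fun r => y (ptN r), funext fun p => ?_⟩
  obtain ⟨n, -, hn⟩ := cycle_facts _ (idxN_lt p)
  have hlt := orbI_lt _ (idxN_lt p)
  have hk : ∀ (k : ℕ) q, y ((s7 ^ k) q) = y q := by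
    intro k
    induction k with
    | zero => simp
    | succ k ih => intro q; rw [pow_succ', Equiv.Perm.mul_apply, h, ih]
  show y p = List.getD _ _ 0
  rw [List.getD_eq_getElem _ 0 (by simpa using hlt), List.getElem_map,
    ← List.getD_eq_getElem _ 0 (by simpa using hlt)]
  set r := ([5, 9, 10, 0, 6, 11] : List ℕ).getD (orbI (idxN p)) 0
  have hr : r < 24 := (by decide : ∀ j < 6, ([5, 9, 10, 0, 6, 11] : List ℕ).getD j 0 < 24) _ hlt
  have : p = (s7 ^ n) (ptN r) := idxN_injective (by rw [← (pow7_reps s7_reps n) r hr, hn])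
  rw [this, hk]

/-- the mask of a union of orbits -/
def omask (c : List Bool) : ℕ :=
  (List.range 24).foldl (fun m i => if c.getD (orbI i) false then m ||| (1 <<< i) else m) 0

theorem omask_ok : ∀ b : Fin 6 → Bool,
    omask (List.ofFn b) < 2 ^ 24 ∧ (∀ i : Fin 24,
      (omask (List.ofFn b)).testBit i.val = (List.ofFn b).getD (orbI i.val) false) ∧
    (H90.isCode (omask (List.ofFn b)) = true →
      ∃ n1 ∈ [false, true], ∃ n2 ∈ [false, true], ∃ n3 ∈ [false, true], List.ofFn b =
        [n2, n3, n1, n1, n3, n2]) := by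
  decide +kernel

theorem decomp (a0 a1 a2 a3 a4 a5 m : ℤ) (n1 n2 n3 : Bool) (hm : m = 0 ∨ m = 1)
    (p0 : (a0 - m) % 2 = 0) (p1 : (a1 - m) % 2 = 0) (p2 : (a2 - m) % 2 = 0)
    (p3 : (a3 - m) % 2 = 0) (p4 : (a4 - m) % 2 = 0) (p5 : (a5 - m) % 2 = 0)
    (b0 : decide ((a0 - m) % 4 = 2) = n2) (b1 : decide ((a1 - m) % 4 = 2) = n3)
    (b2 : decide ((a2 - m) % 4 = 2) = n1) (b3 : decide ((a3 - m) % 4 = 2) = n1)
    (b4 : decide ((a4 - m) % 4 = 2) = n3) (b5 : decide ((a5 - m) % 4 = 2) = n2)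
    (hs : 8 ∣ a0 + a1 + a2 + 7 * a3 + 7 * a4 + 7 * a5 - 4 * m) :
    let u1 : ℤ := ((if n1 then 1 else 0) + m) % 2
    let u2 : ℤ := if n2 then 1 else 0
    let u3 : ℤ := ((if n3 then 1 else 0) + m) % 2
    let q1 := (a1 + m - 2 * u3) / 4
    let q2 := (a2 + m - 2 * u1) / 4
    let q3 := (a3 + m - 2 * u1) / 4
    let q4 := (a4 + m - 2 * u3) / 4
    let q5 := (a5 - m - 2 * u2) / 4
    let q0 := (a0 + 3 * m - 2 * u2 - 4 * (q1 + q2 + q3 + q4 + q5)) / 8
    a0 = 0 + m * (-3) + u1 * 0 + u2 * 2 + u3 * 0 + q1 * 4 + q2 * 4 + q3 * 4 + q4 * 4 + q5 * 4 + q0 * 8 ∧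
    a1 = 0 + m * (-1) + u1 * 0 + u2 * 0 + u3 * 2 + q1 * 4 + q2 * 0 + q3 * 0 + q4 * 0 + q5 * 0 + q0 * 0 ∧
    a2 = 0 + m * (-1) + u1 * 2 + u2 * 0 + u3 * 0 + q1 * 0 + q2 * 4 + q3 * 0 + q4 * 0 + q5 * 0 + q0 * 0 ∧
    a3 = 0 + m * (-1) + u1 * 2 + u2 * 0 + u3 * 0 + q1 * 0 + q2 * 0 + q3 * 4 + q4 * 0 + q5 * 0 + q0 * 0 ∧
    a4 = 0 + m * (-1) + u1 * 0 + u2 * 0 + u3 * 2 + q1 * 0 + q2 * 0 + q3 * 0 + q4 * 4 + q5 * 0 + q0 * 0 ∧
    a5 = 0 + m * 1 + u1 * 0 + u2 * 2 + u3 * 0 + q1 * 0 + q2 * 0 + q3 * 0 + q4 * 0 + q5 * 4 + q0 * 0 := by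
  rcases hm with rfl | rfl <;> cases n1 <;> cases n2 <;> cases n3 <;>
    simp only [decide_eq_true_eq, decide_eq_false_iff_not, Bool.false_eq_true, if_false, if_true]
      at b0 b1 b2 b3 b4 b5 ⊢ <;> omega

theorem inT_fixed (v : leechLattice) (hv : g7 • v = v) : InT v := by
  have hc : ∀ p, (v : GolayPt → ℤ) (s7 p) = (v : GolayPt → ℤ) p := fun p => by
    have := congrArg (fun w : leechLattice => (w : GolayPt → ℤ) (s7 p)) hv
    simp only [g7, gp, mono_smul] at this
    simpa [signedPerm] using this.symm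
  obtain ⟨a, ha⟩ := rep_const hc
  obtain ⟨m, hm, w, hw, zz, hz, hs⟩ := exists_form v.2
  let A : Fin 6 → ℤ := fun j => a.getD j.val 0
  have hA : ∀ p, (v : GolayPt → ℤ) p = A ⟨orbI (idxN p), orbI_lt _ (idxN_lt p)⟩ := fun p => by
    rw [ha]; rfl
  let b : Fin 6 → Bool := fun j => decide ((A j - m) % 4 = 2)
  have hmask : w = H90.wordOf (omask (List.ofFn b)) := by
    funext p
    have h1 := hz p
    have hlt := orbI_lt _ (idxN_lt p)
    show w p = if (omask (List.ofFn b)).testBit (H90.idx p).val then 1 else 0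
    rw [(omask_ok b).2.1 (H90.idx p), List.getD_eq_getElem _ _ (by rw [List.length_ofFn]; exact hlt),
      List.getElem_ofFn]
    rw [hA] at h1
    show w p = if decide _ = true then 1 else 0
    rw [show (⟨orbI (H90.idx p).val, _⟩ : Fin 6) = ⟨orbI (idxN p), orbI_lt _ (idxN_lt p)⟩ from rfl]
    rcases H95.zmod2_cases (w p) with e | e <;> rw [e] at h1 ⊢
    · rw [show (((0 : ZMod 2).val : ℤ)) = 0 from rfl] at h1
      rw [if_neg]
      intro hd
      have hd' := of_decide_eq_true hd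
      omega
    · rw [show (((1 : ZMod 2).val : ℤ)) = 1 from rfl] at h1
      rw [if_pos]
      apply decide_eq_true
      omega
  have hcode : H90.isCode (omask (List.ofFn b)) = true :=
    (H90.wordOf_mem_iff (omask_ok b).1).mp (hmask ▸ hw)
  obtain ⟨n1, -, n2, -, n3, -, hn⟩ := (omask_ok b).2.2 hcode
  have hbit : ∀ j : Fin 6, b j = [n2, n3, n1, n1, n3, n2].getD j.val false :=
    fun j => by
      rw [← hn, List.getD_eq_getElem _ _ (by rw [List.length_ofFn]; exact j.isLt), List.getElem_ofFn]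
  have hpar : ∀ j : Fin 6, (A j - m) % 2 = 0 := by
    intro j
    have hj : ∀ j : Fin 6, ∃ i : Fin 24, orbI i.val = j.val := by decide +kernel
    obtain ⟨i, hi⟩ := hj j
    have h1 := hz (H90.pt i)
    rw [hA] at h1
    have : (⟨orbI (idxN (H90.pt i)), orbI_lt _ (idxN_lt _)⟩ : Fin 6) = j :=
      Fin.ext (by show orbI (H90.idx (H90.pt i)).val = _; rw [H90.idx_pt, hi])
    rw [this] at h1
    omega
  have hsum : (∑ i, (v : GolayPt → ℤ) i) = A 0 + A 1 + A 2 + 7 * A 3 + 7 * A 4 + 7 * A 5 := by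
    have : ∀ p, (v : GolayPt → ℤ) p = a.getD (orbI (idxN p)) 0 := fun p => by rw [ha]; rfl
    simp only [this]
    rw [← Equiv.sum_comp H90.ptEquiv]
    simp only [idxN, H90.ptEquiv_apply, H90.idx_pt, Fin.sum_univ_succ, Fin.val_zero, Fin.val_succ,
      Finset.univ_eq_empty, Finset.sum_empty]
    simp only [A, orbI, orbL, List.getD_cons_zero, List.getD_cons_succ]
    norm_num
    ring
  rw [hsum] at hs
  let u1 : ℤ := ((if n1 then 1 else 0) + m) % 2
  let u2 : ℤ := if n2 then 1 else 0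
  let u3 : ℤ := ((if n3 then 1 else 0) + m) % 2
  let q1 := (A 1 + m - 2 * u3) / 4
  let q2 := (A 2 + m - 2 * u1) / 4
  let q3 := (A 3 + m - 2 * u1) / 4
  let q4 := (A 4 + m - 2 * u3) / 4
  let q5 := (A 5 - m - 2 * u2) / 4
  let q0 := (A 0 + 3 * m - 2 * u2 - 4 * (q1 + q2 + q3 + q4 + q5)) / 8
  have hmem : ∀ k, k < 10 → genF.getD k [] ∈ genF := by decide
  let g : ∀ k, k < 10 → leechLattice := fun k hk =>
    ⟨fx (genF.getD k []), H96.Check.checkB_spec (List.all_eq_true.mp genF_ok _ (hmem k hk))⟩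
  let vv : leechLattice := tv 0 + m • g 0 (by norm_num) + u1 • g 1 (by norm_num)
    + u2 • g 2 (by norm_num) + u3 • g 3 (by norm_num) + q1 • g 4 (by norm_num)
    + q2 • g 5 (by norm_num) + q3 • g 6 (by norm_num) + q4 • g 7 (by norm_num)
    + q5 • g 8 (by norm_num) + q0 • g 9 (by norm_num)
  have hvv : InT vv := by
    exact InT.add_zsmul (hmem 9 (by norm_num)) _ (InT.add_zsmul (hmem 8 (by norm_num)) _
      (InT.add_zsmul (hmem 7 (by norm_num)) _ (InT.add_zsmul (hmem 6 (by norm_num)) _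
      (InT.add_zsmul (hmem 5 (by norm_num)) _ (InT.add_zsmul (hmem 4 (by norm_num)) _
      (InT.add_zsmul (hmem 3 (by norm_num)) _ (InT.add_zsmul (hmem 2 (by norm_num)) _
      (InT.add_zsmul (hmem 1 (by norm_num)) _ (InT.add_zsmul (hmem 0 (by norm_num)) _ ⟨0, rfl⟩)))))))))
  refine hvv.congr (congrArg cls (Subtype.ext (funext fun p => ?_)))
  rw [hA]
  have h0 := hbit 0
  have h1 := hbit 1
  have h2 := hbit 2
  have h3 := hbit 3
  have h4 := hbit 4
  have h5 := hbit 5
  have p0 := hpar 0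
  have p1 := hpar 1
  have p2 := hpar 2
  have p3 := hpar 3
  have p4 := hpar 4
  have p5 := hpar 5
  simp only [vv, g, AddSubgroup.coe_add, AddSubgroup.coe_zsmul, Pi.add_apply, Pi.smul_apply,
    smul_eq_mul, tv, fx, tl, tblL, genF, List.getD_cons_zero, List.getD_cons_succ, Fin.val_zero]
  have key : ∀ o (ho : o < 6), A ⟨o, ho⟩ = [0, 0, 0, 0, 0, 0].getD o 0
      + m * [-3, -1, -1, -1, -1, 1].getD o 0 + u1 * [0, 0, 2, 2, 0, 0].getD o 0
      + u2 * [2, 0, 0, 0, 0, 2].getD o 0 + u3 * [0, 2, 0, 0, 2, 0].getD o 0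
      + q1 * [4, 4, 0, 0, 0, 0].getD o 0 + q2 * [4, 0, 4, 0, 0, 0].getD o 0
      + q3 * [4, 0, 0, 4, 0, 0].getD o 0 + q4 * [4, 0, 0, 0, 4, 0].getD o 0
      + q5 * [4, 0, 0, 0, 0, 4].getD o 0 + q0 * [8, 0, 0, 0, 0, 0].getD o 0 := ?_
  · exact key _ (orbI_lt _ (idxN_lt p))
  have e0 := hbit 0
  have e1 := hbit 1
  have e2 := hbit 2
  have e3 := hbit 3
  have e4 := hbit 4
  have e5 := hbit 5
  obtain ⟨r0, r1, r2, r3, r4, r5⟩ := decomp (A 0) (A 1) (A 2) (A 3) (A 4) (A 5) m n1 n2 n3 hm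
    (hpar 0) (hpar 1) (hpar 2) (hpar 3) (hpar 4) (hpar 5) e0 e1 e2 e3 e4 e5 hs
  intro o hlt
  interval_cases o
  · exact r0
  · exact r1
  · exact r2
  · exact r3
  · exact r4
  · exact r5

theorem inT_of_fixC {v : leechLattice} (hv : FixC v) : InT v := by
  let w : leechLattice := ∑ i ∈ range 7, g7 ^ i • v
  have hstep : ∀ i : ℕ, cls (g7 ^ i • v) = cls v := by
    intro i
    induction i with
    | zero => rw [pow_zero, one_smul]
    | succ i ih => rw [pow_succ', mul_smul]; exact (H56M.cls_smul_congr g7 ih).trans hv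
  have hw : g7 • w = w := by
    show co0Hom g7 (∑ i ∈ range 7, g7 ^ i • v) = _
    rw [map_sum]
    show ∑ i ∈ range 7, g7 • (g7 ^ i • v) = ∑ i ∈ range 7, g7 ^ i • v
    simp only [← mul_smul, ← pow_succ']
    rw [sum_range_succ, g7_seven, one_smul, sum_range_succ' (fun i => g7 ^ i • v), pow_zero, one_smul]
  refine (inT_fixed w hw).congr ?_
  show (v : leechLattice ⧸ twice leechLattice) = (QuotientAddGroup.mk' (twice leechLattice)) w
  rw [map_sum]
  show cls v = ∑ i ∈ range 7, cls (g7 ^ i • v)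
  simp only [hstep]
  rw [sum_const, card_range, show (7 : ℕ) = 2 * 3 + 1 from rfl, add_smul, one_smul, mul_comm, mul_smul,
    two_nsmul (cls v), H56M.cls_add_self, smul_zero, zero_add]

theorem eq_of_sig {v : leechLattice} (hv : FixC v) {i : Fin 64}
    (h : sigL (vecL (v : GolayPt → ℤ)) = sigL (tb i.val)) : cls v = cls (tv i) := by
  obtain ⟨j, hj⟩ := inT_of_fixC hv
  have := sigL_congr hj
  rw [h, vecL_tv] at this
  rw [sig_distinct i j this, hj]

theorem cls_tv_injective {i j : Fin 64} (h : cls (tv i) = cls (tv j)) : i = j :=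
  sig_distinct i j (by rw [← vecL_tv, ← vecL_tv]; exact sigL_congr h)

theorem g7_tv (i : Fin 64) : g7 • tv i = tv i := by
  have h : ∀ j : Fin 64, p7L (tb j.val) = tb j.val := by decide +kernel
  exact eq_of_vecL (by rw [vecL_g7, vecL_tv, h])

theorem fixC_tv (i : Fin 64) : FixC (tv i) := by rw [FixC, g7_tv]

theorem tv_zero : cls (tv 0) = 0 := by
  have : tv 0 = 0 := eq_of_vecL (by
    rw [vecL_tv]
    show tb 0 = vecL (0 : GolayPt → ℤ)
    unfold vecL tb expL
    congr 1
    funext i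
    have : ∀ j : Fin 24, (tl 0).getD (orbI j.val) 0 = 0 := by decide +kernel
    exact this i)
  rw [this]; rfl

theorem sep {i : Fin 64} (hi : i ≠ 0) : ∃ j : Fin 64, H56M.bf (tv i) (tv j) = 1 := by
  by_contra hcon
  push Not at hcon
  apply hi
  refine sig_distinct i 0 ?_
  have key : ∀ b : Fin 64, parB (tb i.val) (tb b.val) = false := fun b => by
    have h := (H56M.bf_eq_zero).mp ((H95.zmod2_cases _).resolve_right (hcon b))
    rw [← vecL_tv, ← vecL_tv]
    unfold parB
    rw [dotL_vecL, decide_eq_false_iff_not]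
    omega
  have key0 : ∀ b ∈ basisL, parB (tb 0) (tb b) = false := by decide +kernel
  simp only [sigL, basisL, List.map_cons, List.map_nil]
  rw [show parB (tb i.val) (tb 1) = false from key 1, show parB (tb i.val) (tb 2) = false from key 2,
    show parB (tb i.val) (tb 3) = false from key 3, show parB (tb i.val) (tb 5) = false from key 5,
    show parB (tb i.val) (tb 6) = false from key 6, show parB (tb i.val) (tb 7) = false from key 7]
  simp only [basisL, List.forall_mem_cons] at key0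
  obtain ⟨a, b, c, d, e, f, -⟩ := key0
  show _ = [parB (tb 0) _, parB (tb 0) _, parB (tb 0) _, parB (tb 0) _, parB (tb 0) _, parB (tb 0) _]
  rw [a, b, c, d, e, f]

/-- a fixed class of norm sixty-four is one of the fourteen -/
theorem norm64_index {v : leechLattice} (h64 : ldot v v = 64) {i : Fin 64}
    (h : cls v = cls (tv i)) : 50 ≤ i.val := by
  by_contra hlt
  push Not at hlt
  have hn : ∀ j : Fin 64, j.val < 50 → normL.getD j.val 0 < 64 := by decide +kernel
  have h1 := hn i hlt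
  rw [← ldot_tv] at h1
  rcases H56M.eq_or_neg_of_cls (by rw [h64]) h1.le h (Or.inr h1.ne) with e | e
  · rw [e] at h64; omega
  · rw [e, leechLike.norm_neg] at h64; omega

theorem norm_high : ∀ j : Fin 64, 50 ≤ j.val → normL.getD j.val 0 = 64 := by decide +kernel

theorem cls_frame : cls (eight none) = cls (tv 50) := by
  have e : tv 50 = -eight (H90.pt 5) := eq_of_vecL (by
    rw [vecL_tv]
    show tb 50 = vecL (-(eight (H90.pt 5) : GolayPt → ℤ))
    unfold tb expL vecL eight
    congr 1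
    funext i
    have h : ∀ j : Fin 24, (tl 50).getD (orbI j.val) 0 = if j = 5 then -8 else 0 := by decide +kernel
    rw [h i]
    show _ = -((Pi.single (H90.pt 5) 8 : GolayPt → ℤ) (H90.pt i))
    rw [Pi.single_apply]
    simp only [H90.pt_injective.eq_iff]
    split <;> simp)
  rw [e, cls_neg]
  exact (H56M.cls_eight _).symm

end H73.Mon7
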