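import Cfsg.Agent.H73.Mon7.Act
import Cfsg.Agent.H12.Monster.Standard
import Cfsg.Agent.H56.MonsterBabyType

/-!
The centraliser of a group of order seven in a group of Monster type is of Held type.
-/

set_option autoImplicit false

namespace H73.Mon7

open Cfsg Finset H95 H94 H12.Monster
open H56M (cls cls_eq cls_add cls_neg Data CZ QG)

theorem permHom_s7 : H95.permHom ⟨s7, s7_mem⟩ = g7 := by
  refine co0_ext fun v => Subtype.ext ?_
  show ((mono s7 ∅ s7_mem H95.empty_supp • v : leechLattice) : GolayPt → ℤ) = _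
  rw [g7, gp, mono_smul, mono_smul, pow_one]

theorem fixCls_g7 : fixCls g7 = Set.range fun i : Fin 64 => cls (tv i) := by
  ext c
  constructor
  · rintro ⟨v, hv, rfl⟩
    obtain ⟨i, hi⟩ := inT_of_fixC hv
    exact ⟨i, hi.symm⟩
  · rintro ⟨i, rfl⟩
    exact ⟨tv i, fixC_tv i, rfl⟩

theorem ncard_fixCls : (fixCls g7).ncard = 2 ^ (2 * 3) := by
  rw [fixCls_g7, Set.ncard_range_of_injective (fun _ _ h => cls_tv_injective h)]
  simp

theorem toSL_eq_one_of_act {a : C7} (h : ∀ v, act a v = v) : toSL a = 1 := by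
  refine Subtype.ext (Matrix.ext_of_mulVec_single fun i => ?_)
  rw [toSL_apply, h, Matrix.SpecialLinearGroup.coe_one, Matrix.one_mulVec]

theorem toSL_hact (a : C7) (h : ∀ v, cls (g7 • v) = cls v → cls ((a : Co0) • v) = cls v) :
    toSL a = 1 :=
  toSL_eq_one_of_act fun v => U_injective <| by
    rw [← act_spec, h _ (fixC_tv _)]; rfl

theorem g7_pow_tv (k : ℕ) (i : Fin 64) : g7 ^ k • tv i = tv i := by
  induction k with
  | zero => rw [pow_zero, one_smul]
  | succ k ih => rw [pow_succ, mul_smul, g7_tv, ih]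

theorem toSL_hker (a : C7) :
    toSL a = 1 ↔ ∃ i : ℕ, (a : Co0) = g7 ^ i ∨ (a : Co0) = g7 ^ i * negOne := by
  constructor
  · intro h
    obtain ⟨k, hk⟩ := kernel_eq h
    refine ⟨k, ?_⟩
    rw [g7_pow]
    rcases hk with e | e
    · exact Or.inl e
    · exact Or.inr (e.trans (Subgroup.mem_center_iff.mp H95.negOne_mem_center (gp k)).symm)
  · rintro ⟨i, hi⟩
    refine toSL_eq_one_of_act fun v => U_injective ?_
    rw [← act_spec]
    rcases hi with e | e
    · rw [e, g7_pow_tv]; rfl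
    · rw [e, mul_smul, negOne_smul, H56M.cls_smul_congr _ (cls_neg _), g7_pow_tv]; rfl

/-- the natural action -/
noncomputable def slAct : MulAction (Matrix.SpecialLinearGroup (Fin 3) (ZMod 2)) (Fin 3 → ZMod 2) where
  smul M v := (M : Matrix (Fin 3) (Fin 3) (ZMod 2)).mulVec v
  one_smul v := by
    show Matrix.mulVec _ v = v
    rw [Matrix.SpecialLinearGroup.coe_one, Matrix.one_mulVec]
  mul_smul M N v := by
    show Matrix.mulVec _ v = Matrix.mulVec _ (Matrix.mulVec _ v)
    rw [Matrix.SpecialLinearGroup.coe_mul, Matrix.mulVec_mulVec]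

theorem sl_trans {a b : Fin 3 → ZMod 2} (ha : a ≠ 0) (hb : b ≠ 0) :
    ∃ M : Matrix.SpecialLinearGroup (Fin 3) (ZMod 2),
      (M : Matrix (Fin 3) (Fin 3) (ZMod 2)).mulVec a = b := by
  have key : ∀ v : Fin 3 → ZMod 2, v ≠ 0 → ∃ g : C7, act g ![1, 0, 0] = v := fun v hv => by
    obtain ⟨g, hg⟩ := reach_U (uId v) ((uId_mem v).resolve_left fun h => hv h.1)
    exact ⟨g, act_of_img (by rw [uId_basis.1]; exact hg)⟩
  obtain ⟨g, rfl⟩ := key a ha
  obtain ⟨h, rfl⟩ := key b hb
  refine ⟨toSL (h * g⁻¹), ?_⟩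
  rw [← toSL_apply g, Matrix.mulVec_mulVec, ← Matrix.SpecialLinearGroup.coe_mul, ← map_mul,
    inv_mul_cancel_right, toSL_apply]

theorem sl_no_normal_two (T : Subgroup (Matrix.SpecialLinearGroup (Fin 3) (ZMod 2))) (hn : T.Normal)
    (hT : IsPGroup 2 T) : T = ⊥ := by
  letI := slAct
  have : Fact (Nat.Prime 2) := ⟨Nat.prime_two⟩
  have h1 : Nat.card (MulAction.fixedPoints T (Fin 3 → ZMod 2)) ≡ 0 [MOD 2] := by
    refine (hT.card_modEq_card_fixedPoints (Fin 3 → ZMod 2)).symm.trans ?_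
    rw [Nat.modEq_zero_iff_dvd, Nat.card_eq_fintype_card, Fintype.card_fun, ZMod.card, Fintype.card_fin]
    norm_num
  have h0 : (0 : Fin 3 → ZMod 2) ∈ MulAction.fixedPoints T (Fin 3 → ZMod 2) := fun t =>
    Matrix.mulVec_zero _
  obtain ⟨v, hv, hv0⟩ : ∃ v ∈ MulAction.fixedPoints T (Fin 3 → ZMod 2), v ≠ 0 := by
    by_contra hcon
    push Not at hcon
    have h2 : Nat.card (MulAction.fixedPoints T (Fin 3 → ZMod 2)) = 1 := by
      rw [Nat.card_coe_set_eq, Set.ncard_eq_one]
      exact ⟨0, Set.eq_singleton_iff_unique_mem.mpr ⟨h0, hcon⟩⟩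
    rw [h2] at h1
    exact absurd h1 (by decide)
  rw [Subgroup.eq_bot_iff_forall]
  intro t ht
  refine Subtype.ext (Matrix.ext_of_mulVec_single fun i => ?_)
  rw [Matrix.SpecialLinearGroup.coe_one, Matrix.one_mulVec]
  set w : Fin 3 → ZMod 2 := Pi.single i 1 with hw
  obtain ⟨M, hM⟩ := sl_trans hv0 (b := w) (fun h => by simpa [hw] using congrFun h i)
  have hc : M⁻¹ * t * M ∈ T := by simpa using hn.conj_mem t ht M⁻¹
  have h3 : (↑(M⁻¹ * t * M) : Matrix (Fin 3) (Fin 3) (ZMod 2)).mulVec v = v := hv ⟨_, hc⟩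
  have h4 := congrArg (M : Matrix (Fin 3) (Fin 3) (ZMod 2)).mulVec h3
  rw [Matrix.mulVec_mulVec, ← Matrix.SpecialLinearGroup.coe_mul, mul_assoc, mul_inv_cancel_left,
    Matrix.SpecialLinearGroup.coe_mul, ← Matrix.mulVec_mulVec, hM] at h4
  exact h4

variable {G : Type*} [Group G] [Finite G] {z : G} {Q : Subgroup (CZ z)} [Q.Normal]

/-- an element of the fixed classes of norm 64 is fused to `z` in the centraliser of `y` -/
theorem exists_fuse {D : Data z Q} {s y : G} (S : Setup D s y g7 7) {x : G} {v : leechLattice}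
    (hrep : D.Rep x v) (h64 : ldot v v = 64) (hxy : x * y = y * x) (hxz : x ≠ z) :
    ∃ a : G, a * y = y * a ∧ a * z * a⁻¹ = x := by
  obtain ⟨g₀, hg₀⟩ := H56M.exists_to_eight h64
  refine Setup.exists_fusion (D := D.twist g₀⁻¹) (g := g₀ * g7 * g₀⁻¹) (p := 7)
    ⟨S.prime, S.odd, S.ord, ?_, ?_, hxy.symm, ?_, D.conj_z_of_64 hrep h64, hxz⟩
  · rw [lift_twist, inv_inv, show g₀⁻¹ * (g₀ * g7 * g₀⁻¹) * g₀ = g7 by group]
    exact S.lift
  · rw [conj_pow, g7_seven]; group
  · rw [Data.rep_twist, ← hg₀, inv_smul_smul]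
    exact hrep

/-- the conjugates of `z` in the centraliser of `y` in `Q` -/
theorem conj_cases {D : Data z Q} {s y : G} (S : Setup D s y g7 7) {x : G} (hx : x ∈ QC Q y)
    (hc : IsConj z x) :
    x = z ∨ ∃ i : Fin 64, 50 ≤ i.val ∧ (x = D.elt (tv i) ∨ x = z * D.elt (tv i)) := by
  by_cases hxz : x = z
  · exact Or.inl hxz
  obtain ⟨w, hw, hw64⟩ := D.conj_class hx.1 hc hxz
  obtain ⟨i, hi⟩ := inT_of_fixC ((S.fix_iff hw).mp (mem_QC.mp hx).2)
  refine Or.inr ⟨i, norm64_index hw64 hi, ?_⟩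
  exact (D.rep_elt (tv i)).same (hw.congr hi)

/-- the centraliser modulo a group of order seven is of Held type -/
theorem isOfHeldType_of_setup {D : Data z Q} {s y : G} (S : Setup D s y g7 7) [(YN y).Normal] :
    IsOfHeldType ((CY y) ⧸ YN y) := by
  classical
  obtain ⟨Z, R, hRn, hset, ⟨e⟩, hZ, hR⟩ :=
    S.setting (w := 3) (by norm_num) ncard_fixCls (toSL : C7 →* _) toSL_surjective toSL_hker
      toSL_hact sl_no_normal_two
  refine ⟨Z, R, hRn, hset, ⟨e⟩, ?_⟩
  let π : CY y →* (CY y) ⧸ YN y := QuotientGroup.mk' (YN y)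
  let f : Option (Fin 14 × Fin 2) → G := fun o => o.elim z fun p =>
    if p.2 = 0 then D.elt (tv ⟨50 + p.1.val, by omega⟩) else z * D.elt (tv ⟨50 + p.1.val, by omega⟩)
  have hrepf : ∀ o, D.Rep (f o) (o.elim 0 fun p => tv ⟨50 + p.1.val, by omega⟩) := by
    rintro (_ | ⟨j, b⟩)
    · exact D.rep_z
    · show D.Rep (if b = 0 then _ else _) (tv ⟨50 + j.val, _⟩)
      split
      · exact D.rep_elt _
      · have := D.rep_z.mul (D.rep_elt (tv ⟨50 + j.val, by omega⟩))
        rwa [zero_add] at this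
  have hfQC : ∀ o, f o ∈ QC Q y := fun o => by
    refine S.rep_mem_QC (hrepf o) ?_
    rcases o with _ | p
    · show cls (g7 • (0 : leechLattice)) = cls 0
      rw [co0_zero]
    · exact fixC_tv _
  have hne : ∀ p, f (some p) ≠ z := fun p h => by
    have h1 : cls (tv ⟨50 + p.1.val, by omega⟩) = cls (tv 0) := by
      rw [tv_zero]
      have h2 := hrepf (some p)
      rw [h] at h2
      exact h2.unique D.rep_z
    exact absurd (congrArg Fin.val (cls_tv_injective h1)) (by show 50 + _ ≠ 0; omega)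
  have hinj : Function.Injective f := by
    rintro (_ | ⟨j, b⟩) (_ | ⟨j', b'⟩) h
    · rfl
    · exact absurd h.symm (hne _)
    · exact absurd h (hne _)
    · have h1 : cls (tv ⟨50 + j.val, by omega⟩) = cls (tv ⟨50 + j'.val, by omega⟩) :=
        (hrepf (some (j, b))).unique (h ▸ hrepf (some (j', b')))
      have hj : j = j' := Fin.ext (by have := congrArg Fin.val (cls_tv_injective h1); simpa using this)
      subst hj
      fin_cases b <;> fin_cases b' <;> first
        | rfl
        | (exfalso; refine D.z_ne_one ?_; simpa [f] using h)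
  have hπinj : ∀ a b : CY y, (a : G) ∈ QC Q y → (b : G) ∈ QC Q y → π a = π b → (a : G) = b := by
    intro a b ha hb h
    have h1 : a⁻¹ * b ∈ YN y := QuotientGroup.eq.mp h
    rw [Subgroup.mem_subgroupOf] at h1
    obtain ⟨k, hk⟩ := h1
    have h2 : (a : G)⁻¹ * (b : G) ∈ QG Q := mul_mem (inv_mem ha.1) hb.1
    have h3 : (a : G)⁻¹ * (b : G) = 1 := by
      have hk' : y ^ k = (a : G)⁻¹ * (b : G) := hk
      rw [← hk'] at h2 ⊢
      exact S.zpow_mem_QG h2
    exact inv_mul_eq_one.mp h3
  have hcy : ∀ o, f o ∈ CY y := fun o => mem_CY.mpr (mem_QC.mp (hfQC o)).2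
  let F : Option (Fin 14 × Fin 2) → (CY y) ⧸ YN y := fun o => π ⟨f o, hcy o⟩
  have hFinj : Function.Injective F := fun a b h =>
    hinj (hπinj _ _ (hfQC a) (hfQC b) h)
  have hF0 : π ⟨f none, hcy none⟩ = Z := hZ _ rfl
  have hT : Subtype.val '' {c : CZ Z | c ∈ R ∧ IsConj Z (c : (CY y) ⧸ YN y)} = Set.range F := by
    ext c
    constructor
    · rintro ⟨c, ⟨hcR, hc⟩, rfl⟩
      obtain ⟨x, hx, hxc⟩ := (hR c).mp hcR
      have hconj : IsConj z (x : G) := by
        rw [← hxc] at hc
        obtain ⟨c', hc'⟩ := isConj_iff.mp hc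
        obtain ⟨a, rfl⟩ := QuotientGroup.mk'_surjective (YN y) c'
        rw [← hF0] at hc'
        change π a * π ⟨z, hcy none⟩ * (π a)⁻¹ = π x at hc'
        rw [← map_inv, ← map_mul, ← map_mul] at hc'
        have h1 := QuotientGroup.eq.mp hc'
        rw [Subgroup.mem_subgroupOf] at h1
        obtain ⟨k, hk⟩ := h1
        refine isConj_iff.mpr ⟨(a : G), ?_⟩
        set u : G := (a : G) * z * (a : G)⁻¹ with hu
        have hk' : (x : G) = u * y ^ k := by
          have : y ^ k = u⁻¹ * (x : G) := hk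
          rw [this]; group
        have hu2 : u * u = 1 := by
          rw [hu, show (a : G) * z * (a : G)⁻¹ * ((a : G) * z * (a : G)⁻¹)
            = (a : G) * (z * z) * (a : G)⁻¹ by group, D.z_sq]
          group
        have huy : Commute u (y ^ k) := (show Commute u y from
          mem_CY.mp (mul_mem (mul_mem a.2 (hcy none)) (inv_mem a.2))).zpow_right k
        have h2 : y ^ (k + k) ∈ QG Q := by
          have h3 := mul_mem hx.1 hx.1
          have e : (x : G) * (x : G) = u * u * y ^ (k + k) := by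
            rw [hk', zpow_add, show u * y ^ k * (u * y ^ k) = u * (y ^ k * u) * y ^ k by group,
              ← huy.eq]
            group
          rwa [e, hu2, one_mul] at h3
        have h4 := S.zpow_mem_QG h2
        have h5 : y ^ k = 1 := by
          have h6 : (orderOf y : ℤ) ∣ k + k := orderOf_dvd_iff_zpow_eq_one.mpr h4
          rw [← orderOf_dvd_iff_zpow_eq_one]
          rw [S.ord] at h6 ⊢
          omega
        rw [hk', h5, mul_one]
      have key : ∃ o, f o = (x : G) := by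
        rcases conj_cases S hx hconj with e | ⟨i, hi, e | e⟩
        · exact ⟨none, e.symm⟩
        all_goals
          have hi64 := i.isLt
          have hii : (⟨50 + (i.val - 50), by omega⟩ : Fin 64) = i := Fin.ext (by simp only []; omega)
        · exact ⟨some (⟨i.val - 50, by omega⟩, 0), by simp [f, hii, e]⟩
        · exact ⟨some (⟨i.val - 50, by omega⟩, 1), by simp [f, hii, e]⟩
      obtain ⟨o, ho⟩ := key
      refine ⟨o, ?_⟩
      show π ⟨f o, hcy o⟩ = (c : (CY y) ⧸ YN y)
      rw [← hxc]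
      exact congrArg π (Subtype.ext ho)
    · rintro ⟨o, rfl⟩
      have hzC : F o ∈ CZ Z := by
        rw [H56M.mem_CZ, ← hF0]
        show π _ * π _ = π _ * π _
        rw [← map_mul, ← map_mul]
        exact congrArg π (Subtype.ext (H56M.mem_CZ.mp (H56M.coe_mem_CZ (Q := Q) (hfQC o).1)))
      refine ⟨⟨F o, hzC⟩, ⟨(hR _).mpr ⟨⟨f o, hcy o⟩, hfQC o, rfl⟩, ?_⟩, rfl⟩
      show IsConj Z (F o)
      rw [← hF0]
      rcases o with _ | p
      · exact IsConj.refl _
      · have h64 : ldot (tv ⟨50 + p.1.val, by omega⟩) (tv ⟨50 + p.1.val, by omega⟩) = 64 := by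
          rw [ldot_tv, norm_high _ (Nat.le_add_right 50 _)]
        obtain ⟨a, hay, haz⟩ := exists_fuse S (hrepf (some p)) h64 (mem_QC.mp (hfQC (some p))).2 (hne p)
        exact π.map_isConj (isConj_iff.mpr ⟨⟨a, mem_CY.mpr hay⟩, Subtype.ext haz⟩)
  rw [← Set.ncard_image_of_injective _ Subtype.val_injective, hT,
    Set.ncard_range_of_injective hFinj, Nat.card_eq_fintype_card, Fintype.card_option,
    Fintype.card_prod, Fintype.card_fin, Fintype.card_fin]

/-- a group of order seven in `C(z, s)` -/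
theorem isOfHeldType (hM : IsOfMonsterType z Q) {s : G} (hsQ : s ∈ QG Q) (hs : IsConj z s)
    (hs1 : s ≠ z) {B : Subgroup G} (hB : B ≤ Subgroup.centralizer ({z, s} : Set G))
    (hBp : Nat.card B = 7 ^ (Nat.card (Subgroup.centralizer ({z, s} : Set G))).factorization 7)
    [hn : (B.subgroupOf (Subgroup.centralizer (B : Set G))).Normal] :
    IsOfHeldType (↥(Subgroup.centralizer (B : Set G)) ⧸ B.subgroupOf (Subgroup.centralizer (B : Set G))) := by
  classical
  have : Fact (Nat.Prime 7) := ⟨by norm_num⟩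
  obtain ⟨D₀⟩ := H56M.nonempty_data hM
  obtain ⟨D, hrep⟩ := D₀.exists_twist64 hsQ hs hs1
  set L := Subgroup.centralizer ({z, s} : Set G) with hL
  have hv : cls (eight none) ≠ 0 := fun h0 => by
    rw [cls_frame, ← tv_zero] at h0
    exact absurd (cls_tv_injective h0) (by decide)
  obtain ⟨h, hlh, hhs⟩ := D.exists_lift_fix hrep hv (g₀ := g7)
    (by rw [← permHom_s7]; exact frame_permHom _)
  have hhL : h ∈ L := mem_L.mpr ⟨H56M.mem_CZ.mp hlh.1, hhs⟩
  have hlpow : ∀ j : ℕ, D.Lift (h ^ j) (g7 ^ j) := fun j => by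
    induction j with
    | zero => simpa using D.lift_one_iff.mpr (one_mem _)
    | succ j ih => rw [pow_succ, pow_succ]; exact ih.mul hlh
  have h7 : 7 ∣ Nat.card L := by
    have h1 : 7 ∣ orderOf h := by
      have h2 := hlpow (orderOf h)
      rw [pow_orderOf_eq_one] at h2
      have h3 : g7 ^ orderOf h = 1 ∨ g7 ^ orderOf h = negOne := by
        rcases (D.lift_one_iff.mpr (one_mem _)).unique h2 with e | e
        · exact Or.inl e
        · exact Or.inr (by rwa [one_mul] at e)
      have h4 : g7 ^ orderOf h = 1 := by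
        rcases h3 with e | e
        · exact e
        · have e7 : negOne ^ 7 = 1 := by
            rw [← e, ← pow_mul, mul_comm, pow_mul, g7_seven, one_pow]
          rw [e]
          rwa [show (7 : ℕ) = 2 * 3 + 1 from rfl, pow_succ, pow_mul, sq, H56M.negOne_mul_self, one_pow,
            one_mul] at e7
      have h5 : orderOf g7 = 7 := orderOf_eq_prime g7_seven fun e => by
        rw [← permHom_s7, ← map_one H95.permHom] at e
        have h6 : s7 = 1 := congrArg Subtype.val (H95.permHom_injective e)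
        have hok := pows7_ok
        simp only [Bool.and_eq_true, Bool.not_eq_true'] at hok
        have h8 : Reps rep7 (1 : Equiv.Perm GolayPt) := h6 ▸ s7_reps
        exact absurd (h8.peq_of_eq reps_one) (by simp [hok.2])
      rw [← h5]
      exact orderOf_dvd_of_pow_eq_one h4
    exact h1.trans (Subgroup.orderOf_dvd_natCard L hhL)
  have hcardB : Nat.card B = 7 := by
    have hLne : Nat.card L ≠ 0 := Nat.card_pos.ne'
    set n := (Nat.card L).factorization 7 with hn7
    have h1 : 1 ≤ n := (Nat.Prime.factorization_pos_of_dvd (by norm_num) hLne h7)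
    have h2 := odd_dvd_card hrep (q := 7) (n := n) (by norm_num) (by norm_num) (Nat.ordProj_dvd _ _)
    rw [H90.natCard_M24] at h2
    have h3 : n ≤ 1 := by
      by_contra hc
      exact absurd ((pow_dvd_pow 7 (show 2 ≤ n by omega)).trans h2) (by norm_num)
    rw [hBp, show n = 1 by omega, pow_one]
  obtain ⟨⟨y, hyB⟩, hy1⟩ : ∃ y : B, y ≠ 1 := by
    have : Nontrivial B := Finite.one_lt_card_iff_nontrivial.mp (by omega)
    exact exists_ne 1
  have hord : orderOf y = 7 := by
    have h1 := orderOf_dvd_natCard (⟨y, hyB⟩ : B)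
    rw [hcardB, ← orderOf_injective B.subtype Subtype.val_injective] at h1
    rcases (Nat.dvd_prime (by norm_num)).mp h1 with e | e
    · exact absurd (Subtype.ext (orderOf_eq_one_iff.mp e)) hy1
    · exact e
  have hyz : y * z = z * y := (mem_L.mp (hB hyB)).1
  have hys : y * s = s * y := (mem_L.mp (hB hyB)).2
  obtain ⟨D', σ, hσ, S⟩ := exists_perm (by norm_num) (by decide) hord hyz hys hrep hs hs1
  obtain ⟨s', hs', ho', u, hu, hureps⟩ := H94.seven_conj (S := Subgroup.zpowers σ)
    (by rw [Nat.card_zpowers, hσ])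
  obtain ⟨m, hm⟩ : ∃ m : ℕ, σ ^ m = s' := by
    have : s' ∈ Subgroup.zpowers σ := hs' ▸ Subgroup.mem_zpowers s'
    rw [mem_zpowers_iff_mem_range_orderOf, Finset.mem_image] at this
    obtain ⟨m, -, hm⟩ := this
    exact ⟨m, hm⟩
  have hm7 : Nat.Coprime 7 m := by
    refine (Nat.Prime.coprime_iff_not_dvd (by norm_num)).mpr fun hd => ?_
    obtain ⟨k, rfl⟩ := hd
    rw [pow_mul, ← hσ, pow_orderOf_eq_one, one_pow] at hm
    rw [← hm, orderOf_one] at ho'
    norm_num at ho'
  have hordm : orderOf (y ^ m) = 7 := by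
    rw [Nat.Coprime.orderOf_pow (by rw [hord]; exact hm7), hord]
  have hlm : ∀ j : ℕ, D'.Lift (y ^ j) (H95.permHom σ ^ j) := fun j => by
    induction j with
    | zero => simpa using D'.lift_one_iff.mpr (one_mem _)
    | succ j ih => rw [pow_succ, pow_succ]; exact ih.mul S.lift
  have Sm : Setup D' s (y ^ m) (H95.permHom s') 7 := by
    refine ⟨S.prime, S.odd, hordm, ?_, ?_, ?_, S.rep, S.conj, S.ne⟩
    · rw [← hm, map_pow]; exact hlm m
    · rw [← map_pow, show s' ^ 7 = 1 by rw [← ho']; exact pow_orderOf_eq_one s', map_one]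
    · exact ((show Commute y s from hys).pow_left m).eq
  have heq : (⟨u, hu⟩ : M24)⁻¹ * ⟨s7, s7_mem⟩ * ((⟨u, hu⟩ : M24)⁻¹)⁻¹ = s' := by
    have h1 : u * (s' : Equiv.Perm GolayPt) * u⁻¹ = s7 :=
      hureps.eq_of_peq s7_reps (by decide +kernel)
    refine Subtype.ext ?_
    show u⁻¹ * s7 * (u⁻¹)⁻¹ = (s' : Equiv.Perm GolayPt)
    rw [← h1]; group
  have S7 := Sm.twist_perm heq
  rw [permHom_s7] at S7
  have hBy : B = Subgroup.zpowers (y ^ m) := (Subgroup.eq_of_le_of_card_ge
    (Subgroup.zpowers_le.mpr (pow_mem hyB m)) (by rw [Nat.card_zpowers, hordm, hcardB])).symm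
  subst hBy
  exact isOfHeldType_of_setup S7

end H73.Mon7
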